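import Cfsg.Agent.Mrg.Omega.NO3S.OneQ.POne
import Cfsg.Agent.Mrg.Omega.NO3S.OneQ.TRp.Sys
import Cfsg.Agent.Mrg.Omega.NO3S.OneQ.KOneTIG
import Cfsg.Agent.Mrg.Omega.NO3S.OneQ.TRi.SysI

-- merged: Cfsg.Agent.Mrg.Omega.NO3S.OneQ.TrE.End
section

/-!
# NO-3S, `OneQ`, case (TR), the end (bb OMEGA #20607 (3.5), #21079): the element `n`

* `Dat.exists_n` : some `n ∈ C_G(W_Z)` has `n² ∈ V - Z`;
* `Dat.exists_b` : some `b ∈ C_G(W_Y)` has `b² ∈ W_Y - E_Y`.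
-/

set_option autoImplicit false
set_option linter.unusedSectionVars false

namespace Cfsg.Agent.Omega.NO3S.OneQ.TrE

open Subgroup Cfsg.Agent.Omega.NO3S.PT Cfsg.Agent.Omega.NoFF.Basic
open scoped Pointwise

universe u

variable {G : Type u} [Group G]
variable [Finite G] {F : Type*} [Field F] [CharP F 2] {S : Sylow 2 G} {B P V Z : Subgroup G}
  {h : Co F S B P V Z} {D : Dat h}

theorem Dat.Lab.pt {a b : F} {w : G} (hw : D.Lab a b w) : ∃ X, Pnt V Z X ∧ w ∈ ws V X := by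
  obtain ⟨g, hg, w₀, hw₀, -, -, rfl⟩ := hw
  refine ⟨PT.cj g Z, h.one.self.conj (h.one.pl.XV_le_N hg), ?_⟩
  rw [ws_cj]
  exact conj_mem_cj hw₀

theorem Dat.Lab.dd {a b : F} {w d : G} (hw : D.Lab a b w) (hd : d ∈ dd V Z Z) : d * w = w * d := by
  obtain ⟨X, hX, hwX⟩ := hw.pt
  by_cases hXZ : X = Z
  · subst hXZ
    exact h.one.comm_W hX.cj (dd_le hd) hwX
  · exact h.one.dd_comm hX hXZ hd hwX

theorem Dat.Lab.cV {a b : F} {w v : G} (hw : D.Lab a b w) (hv : v ∈ V) : w * v = v * w := by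
  obtain ⟨X, hX, hwX⟩ := hw.pt
  exact h.one.cent_V (h.one.W_le_cent hX hwX) hv

theorem Dat.Lab.sq {a b : F} {w : G} (hw : D.Lab a b w) : w * w = 1 := by
  obtain ⟨X, hX, hwX⟩ := hw.pt
  exact h.one.sq_W hX hwX

namespace Dat

variable (D)
include D

theorem exists_lab (a : F) {b : F} (hb : b ≠ 0) : ∃ w, D.Lab a b w := by
  obtain ⟨w₀, hw₀, hφ⟩ := D.surj 1
  obtain ⟨τ, hτ⟩ := h.exists_tor hb
  refine ⟨_, h.kp (a * b⁻¹) * h.sw * τ, mul_mem (mul_mem (h.kp_XV _) h.sw_XV) hτ.mem, w₀, hw₀, hφ, ?_, rfl⟩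
  have e : h.kp (a * b⁻¹) * h.sw * τ * h.e 1 0 * (h.kp (a * b⁻¹) * h.sw * τ)⁻¹ =
      h.kp (a * b⁻¹) * (h.sw * (τ * h.e 1 0 * τ⁻¹) * h.sw⁻¹) * (h.kp (a * b⁻¹))⁻¹ := by group
  rw [e, hτ.act, h.sw_act, h.kp_act, mul_one, mul_zero, zero_add, mul_assoc, inv_mul_cancel₀ hb, mul_one]

theorem lab_W {w : G} (hw : w ∈ ws V Z) (hφ : D.φ w ≠ 0) : D.Lab (D.θ (D.φ w) * (D.φ w)⁻¹) 0 w := by
  set t := D.φ w with ht
  have hθt : D.θ t ≠ 0 := fun e => hφ ((map_eq_zero D.θ).1 e)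
  set c := D.θ t * t⁻¹ with hc
  have hc0 : c ≠ 0 := mul_ne_zero hθt (inv_ne_zero hφ)
  obtain ⟨τ, hτ⟩ := h.exists_tor hc0
  have hτ' := hτ.inv hc0
  have h1 : τ⁻¹ * w * τ⁻¹⁻¹ ∈ ws V Z := h.W_conj (hτ'.norm_Z (inv_ne_zero hc0)) hw
  have hcc : c * D.θ c = t := by
    rw [hc, map_mul, map_inv₀, D.θθ]
    field_simp
  refine ⟨τ, hτ.mem, _, h1, ?_, ?_, by group⟩
  · rw [D.tor hτ' (inv_ne_zero hc0) hw, map_inv₀, ← mul_inv, hcc, ← ht, inv_mul_cancel₀ hφ]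
  · rw [hτ.act, mul_one, mul_zero]

omit D in
omit [Finite G] in
/-- `w₁ w₂ w₃` commutes with `u` if `[u, w₁][u, w₂][u, w₃] = 1` -/
theorem _root_.Cfsg.Agent.Omega.NO3S.OneQ.TrE.comm3 {u w₁ w₂ w₃ : G} (c₂ : G) (c₃ : G) (h1 : c₂ = u * w₂ * u⁻¹ * w₂⁻¹)
    (h2 : c₃ = u * w₃ * u⁻¹ * w₃⁻¹) (h3 : w₁ * c₂ = c₂ * w₁) (h4 : w₁ * c₃ = c₃ * w₁) (h5 : w₂ * c₃ = c₃ * w₂)
    (h6 : u * w₁ * u⁻¹ * w₁⁻¹ * c₂ * c₃ = 1) : u * (w₁ * w₂ * w₃) = w₁ * w₂ * w₃ * u := by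
  have e1 : u * w₂ = c₂ * w₂ * u := by rw [h1]; group
  have e2 : u * w₃ = c₃ * w₃ * u := by rw [h2]; group
  calc u * (w₁ * w₂ * w₃) = u * w₁ * u⁻¹ * w₁⁻¹ * (w₁ * (u * w₂) * w₃) := by group
    _ = u * w₁ * u⁻¹ * w₁⁻¹ * ((w₁ * c₂) * w₂ * (u * w₃)) := by rw [e1]; group
    _ = u * w₁ * u⁻¹ * w₁⁻¹ * (c₂ * w₁ * w₂ * (c₃ * w₃ * u)) := by rw [h3, e2]
    _ = u * w₁ * u⁻¹ * w₁⁻¹ * c₂ * (w₁ * (w₂ * c₃)) * w₃ * u := by group
    _ = u * w₁ * u⁻¹ * w₁⁻¹ * c₂ * ((w₁ * c₃) * w₂) * w₃ * u := by rw [h5]; group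
    _ = u * w₁ * u⁻¹ * w₁⁻¹ * c₂ * c₃ * (w₁ * w₂ * w₃) * u := by rw [h4]; group
    _ = w₁ * w₂ * w₃ * u := by rw [h6]; group

omit D in
omit [Finite G] in
/-- the square of `w₁ w₂ w₃` -/
theorem _root_.Cfsg.Agent.Omega.NO3S.OneQ.TrE.sq3 {w₁ w₂ w₃ : G} (c₂₁ c₃₁ c₃₂ : G) (h21 : c₂₁ = w₂ * w₁ * w₂⁻¹ * w₁⁻¹)
    (h31 : c₃₁ = w₃ * w₁ * w₃⁻¹ * w₁⁻¹) (h32 : c₃₂ = w₃ * w₂ * w₃⁻¹ * w₂⁻¹)
    (a1 : w₁ * c₃₁ = c₃₁ * w₁) (a2 : w₂ * c₃₁ = c₃₁ * w₂) (b1 : w₁ * c₃₂ = c₃₂ * w₁) (b2 : w₂ * c₃₂ = c₃₂ * w₂)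
    (d1 : w₁ * c₂₁ = c₂₁ * w₁) (s1 : w₁ * w₁ = 1) (s2 : w₂ * w₂ = 1) (s3 : w₃ * w₃ = 1) :
    w₁ * w₂ * w₃ * (w₁ * w₂ * w₃) = c₃₁ * c₃₂ * c₂₁ := by
  have e1 : w₃ * w₁ = c₃₁ * w₁ * w₃ := by rw [h31]; group
  have e2 : w₃ * w₂ = c₃₂ * w₂ * w₃ := by rw [h32]; group
  have e3 : w₂ * w₁ = c₂₁ * w₁ * w₂ := by rw [h21]; group
  calc w₁ * w₂ * w₃ * (w₁ * w₂ * w₃) = w₁ * w₂ * (w₃ * w₁) * w₂ * w₃ := by group
    _ = w₁ * (w₂ * c₃₁) * w₁ * w₃ * w₂ * w₃ := by rw [e1]; group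
    _ = (w₁ * c₃₁) * w₂ * w₁ * w₃ * w₂ * w₃ := by rw [a2]; group
    _ = c₃₁ * w₁ * w₂ * w₁ * (w₃ * w₂) * w₃ := by rw [a1]; group
    _ = c₃₁ * w₁ * w₂ * (w₁ * c₃₂) * w₂ * (w₃ * w₃) := by rw [e2]; group
    _ = c₃₁ * w₁ * (w₂ * c₃₂) * w₁ * w₂ := by rw [b1, s3]; group
    _ = c₃₁ * (w₁ * c₃₂) * w₂ * w₁ * w₂ := by rw [b2]; group
    _ = c₃₁ * c₃₂ * w₁ * (w₂ * w₁) * w₂ := by rw [b1]; group
    _ = c₃₁ * c₃₂ * (w₁ * c₂₁) * w₁ * (w₂ * w₂) := by rw [e3]; group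
    _ = c₃₁ * c₃₂ * c₂₁ * (w₁ * w₁) := by rw [d1, s2]; group
    _ = c₃₁ * c₃₂ * c₂₁ := by rw [s1, mul_one]

/-- **some `n ∈ C_G(W_Z)` has `n² ∈ V - Z`** -/
theorem exists_n {s : F} (hs0 : s ≠ 0) (hs1 : s ≠ 1) :
    ∃ n ∈ centralizer ((ws V Z : Subgroup G) : Set G), n * n ∈ V ∧ n * n ∉ Z := by
  set T := D.θ s with hT
  have h2 : (2 : F) = 0 := CharTwo.two_eq_zero
  have hθT : D.θ T = s * s := D.θθ s
  have hT1 : T ≠ 1 := fun e => hs1 (D.θ.injective (by rw [map_one]; exact e))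
  have hs1' : 1 + s ≠ 0 := fun e => hs1 (by
    have := CharTwo.add_eq_zero.1 e
    exact this.symm)
  have hT1' : 1 + T ≠ 0 := fun e => hT1 (by
    have := CharTwo.add_eq_zero.1 e
    exact this.symm)
  have hT0 : T ≠ 0 := fun e => hs0 ((map_eq_zero D.θ).1 e)
  set b₂ := T * s⁻¹ with hb₂
  set b₃ := (1 + T) * (1 + s)⁻¹ with hb₃
  have hb₂0 : b₂ ≠ 0 := mul_ne_zero hT0 (inv_ne_zero hs0)
  have hb₃0 : b₃ ≠ 0 := mul_ne_zero hT1' (inv_ne_zero hs1')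
  have hB₂ : b₂ * D.θ b₂ = s := by
    rw [hb₂, map_mul, map_inv₀, hθT, ← hT]
    field_simp
  have hs12 : (1 : F) + s * s = (1 + s) * (1 + s) := by
    linear_combination (-s) * h2
  have hB₃ : b₃ * D.θ b₃ = 1 + s := by
    rw [hb₃, map_mul, map_inv₀, map_add, map_add, map_one, hθT, ← hT, hs12]
    field_simp
  have hsb₂ : s * b₂ = T := by rw [hb₂]; field_simp
  have hsb₃ : (1 + s) * b₃ = 1 + T := by rw [hb₃]; field_simp
  obtain ⟨w₁, h1⟩ := D.exists_lab s (one_ne_zero (α := F))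
  obtain ⟨w₂, h2'⟩ := D.exists_lab 1 hb₂0
  obtain ⟨w₃, h3⟩ := D.exists_lab 0 hb₃0
  refine ⟨w₁ * w₂ * w₃, ?_, ?_⟩
  · rw [mem_centralizer_iff]
    intro u hu
    by_cases hφ : D.φ u = 0
    · have hd := (D.zero hu).1 hφ
      rw [← mul_assoc, ← mul_assoc, h1.dd hd, mul_assoc w₁ u, h2'.dd hd, ← mul_assoc w₁, mul_assoc (w₁ * w₂) u, h3.dd hd]
      group
    · have hu' := D.lab_W hu hφ
      set c := D.θ (D.φ u) * (D.φ u)⁻¹ with hc
      have e1 := hu'.com h1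
      have e2 := hu'.com h2'
      have e3 := hu'.com h3
      refine comm3 _ _ rfl rfl ?_ ?_ ?_ ?_
      · rw [e2]; exact h1.cV (h.e_memV _ _)
      · rw [e3]; exact h1.cV (h.e_memV _ _)
      · rw [e3]; exact h2'.cV (h.e_memV _ _)
      · rw [e1, e2, e3, ← h.e_add, ← h.e_add, h.e_eq_one]
        simp only [zero_mul, add_zero, zero_add, mul_one, map_mul]
        constructor
        · have : D.κ * (c * D.θ c) * (c + s) + D.κ * (c * b₂ * (D.θ c * D.θ b₂)) * (c + 1) +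
              D.κ * (c * b₃ * (D.θ c * D.θ b₃)) * c =
              D.κ * (c * D.θ c) * ((c + s) + (b₂ * D.θ b₂) * (c + 1) + (b₃ * D.θ b₃) * c) := by ring
          rw [this, hB₂, hB₃]
          linear_combination (D.κ * (c * D.θ c) * (c + s + s * c)) * h2
        · have : D.κ * (c * D.θ c) + D.κ * (c * b₂ * (D.θ c * D.θ b₂)) * b₂ +
              D.κ * (c * b₃ * (D.θ c * D.θ b₃)) * b₃ =
              D.κ * (c * D.θ c) * (1 + (b₂ * D.θ b₂) * b₂ + (b₃ * D.θ b₃) * b₃) := by ring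
          rw [this, hB₂, hB₃, hsb₂, hsb₃]
          linear_combination (D.κ * (c * D.θ c) * (1 + T)) * h2
  · have e1 := h2'.com h1
    have e2 := h3.com h1
    have e3 := h3.com h2'
    have key := sq3 (w₁ := w₁) (w₂ := w₂) (w₃ := w₃) _ _ _ rfl rfl rfl
      (by rw [e2]; exact h1.cV (h.e_memV _ _)) (by rw [e2]; exact h2'.cV (h.e_memV _ _))
      (by rw [e3]; exact h1.cV (h.e_memV _ _)) (by rw [e3]; exact h2'.cV (h.e_memV _ _))
      (by rw [e1]; exact h1.cV (h.e_memV _ _)) h1.sq h2'.sq h3.sq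
    rw [key, e1, e2, e3, ← h.e_add, ← h.e_add]
    refine ⟨h.e_memV _ _, ?_⟩
    rw [h.e_memZ_iff]
    simp only [zero_mul, zero_add, mul_one, map_mul]
    have hd21 : (1 : F) + b₂ * s = 1 + T := by rw [mul_comm b₂, hsb₂]
    have hθd : D.θ (1 + T) = 1 + s * s := by rw [map_add, map_one, hθT]
    rw [hd21, hθd, ← hT]
    have h5 : D.κ * (b₃ * s * (D.θ b₃ * T)) * (b₃ + 1) + D.κ * (b₃ * D.θ b₃) * (b₃ + b₂) +
        D.κ * ((1 + T) * (1 + s * s)) * (b₂ + 1) =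
        D.κ * (s * T * ((b₃ * D.θ b₃) * b₃ + b₃ * D.θ b₃) + ((b₃ * D.θ b₃) * b₃ + (b₃ * D.θ b₃) * b₂) +
          ((1 + T) * (1 + s * s)) * (b₂ + 1)) := by ring
    rw [h5, hB₃, hsb₃]
    intro h6
    rcases mul_eq_zero.1 h6 with h7 | h7
    · exact D.κ0 h7
    have h8 : (s + T) * (s * s + T) = 0 := by
      have h9 : s * (s * T * ((1 + T) + (1 + s)) + ((1 + T) + (1 + s) * b₂) + ((1 + T) * (1 + s * s)) * (b₂ + 1)) = 0 := by
        rw [h7, mul_zero]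
      have h10 : s * (s * T * ((1 + T) + (1 + s)) + ((1 + T) + (1 + s) * b₂) + ((1 + T) * (1 + s * s)) * (b₂ + 1)) =
          s * (s * T * ((1 + T) + (1 + s)) + (1 + T)) + (1 + s) * (s * b₂) +
            ((1 + T) * (1 + s * s)) * (s * b₂ + s) := by ring
      rw [h10, hsb₂] at h9
      linear_combination h9 + (-(s * s * T) - s * s * T * T - s * s * s * T - s * T - T - s) * h2
    rcases mul_eq_zero.1 h8 with h9 | h9
    · have h10 : T = s := (CharTwo.add_eq_zero.1 h9).symm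
      have h11 : s * s = s := by rw [← hθT, h10, ← hT, h10]
      exact hs1 (mul_left_cancel₀ hs0 (by rw [h11, mul_one]))
    · have h10 : T = s * s := (CharTwo.add_eq_zero.1 h9).symm
      have h11 : s * s = T * T := by rw [← hθT, h10, map_mul, ← hT, h10]
      rw [h10] at h11
      have h12 : s * s = 1 := by
        have h13 : s * s * (s * s) = s * s * 1 := by rw [mul_one]; exact h11.symm
        exact mul_left_cancel₀ (mul_ne_zero hs0 hs0) h13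
      have h14 : (1 + s) * (1 + s) = 0 := by rw [← hs12, h12]; linear_combination h2
      exact hs1' (mul_self_eq_zero.1 h14)

/-- a line on `Z` which is not in `D_Z` meets `D_Z` in `Z` -/
theorem line_dd {c u : G} (hc : c ∈ centralizer (Z : Set G)) (hL : ¬ PT.cj c V ≤ dd V Z Z) (hu : u ∈ V) (huZ : u ∉ Z) :
    c * u * c⁻¹ ∉ dd V Z Z := by
  intro hcu
  apply hL
  intro x hx
  rw [mem_cj] at hx
  set v := c⁻¹ * x * c with hv
  have hxv : x = c * v * c⁻¹ := by rw [hv]; group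
  obtain ⟨t, ht⟩ := h.exists_scal hu huZ hx
  have huW : u ∈ ws V Z := h.one.V_le_W' hu
  have hvW : v ∈ ws V Z := h.one.V_le_W' hx
  have hcN : c ∈ normalizer (Z : Set G) := centralizer_le_normalizer _ hc
  have h1 : D.φ (c * v * c⁻¹) = t * D.φ (c * u * c⁻¹) := by
    refine D.lin (h.W_conj hcN huW) (h.W_conj hcN hvW) fun k hk => ?_
    rw [h.fn_conj hc hvW hk, h.fn_conj hc huW hk, ht _ (h.K_conj hcN hk)]
  rw [(D.zero (h.W_conj hcN huW)).2 hcu, mul_zero] at h1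
  rw [hxv]
  exact (D.zero (h.W_conj hcN hvW)).1 h1

/-- **some `b ∈ C_G(W_Y)` has `b² ∈ W_Y - E_Y`** -/
theorem exists_b {s : F} (hs0 : s ≠ 0) (hs1 : s ≠ 1) :
    ∃ b ∈ centralizer ((ws V h.Yp : Subgroup G) : Set G), b * b ∈ ws V h.Yp ∧ b * b ∉ ee V Z h.Yp := by
  obtain ⟨n, hn, hnV, hnZ⟩ := D.exists_n hs0 hs1
  -- a line on `Z` outside `D_Z`
  obtain ⟨c, hc, hL⟩ : ∃ c ∈ centralizer (Z : Set G), ¬ PT.cj c V ≤ dd V Z Z := by
    by_contra hcon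
    push Not at hcon
    apply h.one.ee_ne h.one.self
    rw [D.ee_dd]
    refine le_antisymm dd_le (ws_le fun L hL hZL => ?_)
    obtain ⟨c, hc, rfl⟩ := h.line_eq hL hZL
    exact hcon c hc
  have hcN : c ∈ normalizer (Z : Set G) := centralizer_le_normalizer _ hc
  have h1 : c * (n * n) * c⁻¹ ∉ ee V Z Z := by
    rw [D.ee_dd]
    exact D.line_dd hc hL hnV hnZ
  have h2 : c * n * c⁻¹ ∈ centralizer ((ws V Z : Subgroup G) : Set G) := by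
    have := conj_mem_cj (g := c) hn
    rwa [cj_centralizer, cj_eq_iff.2 (normalizer_le_ws V Z hcN)] at this
  have h3 : c * (n * n) * c⁻¹ ∈ ws V Z := h.W_conj hcN (h.one.V_le_W' hnV)
  refine ⟨h.sw * (c * n * c⁻¹) * h.sw⁻¹, ?_, ?_, ?_⟩
  · rw [← h.cj_sw, ws_cj, ← cj_centralizer]
    exact conj_mem_cj h2
  · have e : h.sw * (c * n * c⁻¹) * h.sw⁻¹ * (h.sw * (c * n * c⁻¹) * h.sw⁻¹) = h.sw * (c * (n * n) * c⁻¹) * h.sw⁻¹ := by
      group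
    rw [e]
    exact h.sw_W h3
  · have e : h.sw * (c * n * c⁻¹) * h.sw⁻¹ * (h.sw * (c * n * c⁻¹) * h.sw⁻¹) = h.sw * (c * (n * n) * c⁻¹) * h.sw⁻¹ := by
      group
    rw [e, h.sw_ee]
    exact h1

end Dat

end Cfsg.Agent.Omega.NO3S.OneQ.TrE

end

-- merged: Cfsg.Agent.Mrg.Omega.NO3S.OneQ.TrE.Plug
section

section


/-!
# NO-3S, `OneQ`, case (TR), the last contradiction (bb OMEGA #20975 (III), #21376)

`Co.tr_end` : `TRp.Sys` with `v c = c v₀`, `Φ c` = the functionals of `c W_Y c⁻¹`, `TRp.Inj`, and an element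
`b ∈ C_G(W_Y)` with `b² ∈ W_Y - E_Y` : contradiction.
-/

set_option autoImplicit false
set_option linter.unusedSectionVars false

namespace Cfsg.Agent.Omega.NO3S.OneQ

open Subgroup Cfsg.Agent.Omega.NO3S.PT Cfsg.Agent.Omega.NoFF.Basic
open scoped Pointwise

universe u

variable {G : Type u} [Group G]

namespace Co

variable [Finite G] {F : Type*} [Field F] [CharP F 2] {S : Sylow 2 G} {B P V Z : Subgroup G} (h : Co F S B P V Z)

/-- (TR) `[W_Z, W_Y] ≤ V` : the elements of `W_Y` are transvections of `MF` -/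
theorem tr_phi (htr : ∀ w ∈ ws V Z, ∀ u ∈ ws V h.Yp, w * u * w⁻¹ * u⁻¹ ∈ V) {u : G} (hu : u ∈ ws V h.Yp) :
    ∃ φ : Module.Dual F h.MF, ∀ m, h.rz ⟨u, h.one.W_le_C h.pY hu⟩ m = m + φ m • h.v0 := by
  have huC := h.one.W_le_C h.pY hu
  have h1 : ∀ m, (h.rz ⟨u, huC⟩ - 1) m ∈ h.lam := by
    intro m
    obtain ⟨w, rfl⟩ := h.fm_surj m
    obtain ⟨x, hx, hxe, e⟩ := h.rp_W h.pY h.Yp_ne hu w
    have e' : (h.rz ⟨u, huC⟩ - 1) (h.fm w) = h.fm ⟨x, h.one.I_le_W' hx⟩ := e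
    rw [e', h.fm_mem_lam_I hx, hxe]
    have h2 := inv_mem (htr w w.2 u hu)
    have e3 : ((w : G) * u * (w : G)⁻¹ * u⁻¹)⁻¹ = u * w * u⁻¹ * (w : G)⁻¹ := by group
    rwa [e3] at h2
  let T : h.MF →ₗ[F] h.lam := LinearMap.codRestrict h.lam (h.rz ⟨u, huC⟩ - 1) h1
  let E : F ≃ₗ[F] h.lam := LinearEquiv.toSpanNonzeroSingleton F h.MF h.v0 h.v0_ne
  refine ⟨(E.symm : h.lam →ₗ[F] F) ∘ₗ T, fun m => ?_⟩
  have h2 : E (E.symm (T m)) = T m := E.apply_symm_apply _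
  have h3 : ((E (E.symm (T m)) : h.lam) : h.MF) = E.symm (T m) • h.v0 := rfl
  have h4 : ((T m : h.lam) : h.MF) = h.rz ⟨u, huC⟩ m - m := rfl
  rw [h2, h4] at h3
  show h.rz ⟨u, huC⟩ m = m + E.symm (T m) • h.v0
  rw [← h3, add_sub_cancel]

/-- an element of `W_Y` which is trivial on `MF` is in `E_Y` -/
theorem mem_ee_of_rz {u : G} (hu : u ∈ ws V h.Yp) (h1 : ∀ m, h.rz ⟨u, h.one.W_le_C h.pY hu⟩ m = m) :
    u ∈ ee V Z h.Yp := by
  refine h.one.mem_ee_of h.pY h.one.self h.Yp_ne.symm hu fun w hw => ?_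
  obtain ⟨x, hx, hxe, e⟩ := h.rp_W h.pY h.Yp_ne hu ⟨w, hw⟩
  have e' : h.rz ⟨u, h.one.W_le_C h.pY hu⟩ (h.fm ⟨w, hw⟩) - h.fm ⟨w, hw⟩ = h.fm ⟨x, h.one.I_le_W' hx⟩ := e
  rw [h1, sub_self] at e'
  have h2 := (h.fm_eq_zero _).1 e'.symm
  have h3 : x ∈ Z := h.rd_inf_I ⟨h2, hx⟩
  rwa [hxe] at h3

/-- **the end of (TR)** -/
theorem tr_end [Finite F] (htr : ∀ w ∈ ws V Z, ∀ u ∈ ws V h.Yp, w * u * w⁻¹ * u⁻¹ ∈ V)
    {v : centralizer (Z : Set G) → h.MF} {Φ : centralizer (Z : Set G) → AddSubgroup (Module.Dual F h.MF)}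
    (hv : ∀ c, v c = h.rz c h.v0)
    (hΦ : ∀ c φ, φ ∈ Φ c ↔ ∃ a : centralizer (Z : Set G), (a : G) ∈ ws V h.Yp ∧
      ∀ m, h.rz (c * a * c⁻¹) m = m + φ m • v c)
    (Sy : TRp.Sys F v Φ) (hI : TRp.Inj v Φ) {b : G} (hb : b ∈ centralizer ((ws V h.Yp : Subgroup G) : Set G))
    (hb2 : b * b ∈ ws V h.Yp) (hbE : b * b ∉ ee V Z h.Yp) : False := by
  have : Finite h.MF := inferInstance
  have hv1 : v 1 = h.v0 := by rw [hv, map_one]; rfl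
  have hbV : b ∈ centralizer (V : Set G) := centralizer_le (h.one.V_le_W h.pY) hb
  have hbC : b ∈ centralizer (Z : Set G) := centralizer_le h.one.pl.ZV hbV
  set β : centralizer (Z : Set G) := ⟨b, hbC⟩ with hβ
  -- `g`
  let g : h.MF ≃ₗ[F] h.MF := LinearEquiv.ofLinearMap (h.rz β) (h.rz β⁻¹)
    (by ext1 m; rw [LinearMap.comp_apply]; exact Mix.r_inv_apply h.rz β m)
    (by ext1 m; rw [LinearMap.comp_apply]; exact Mix.r_inv_apply' h.rz β m)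
  have hg : ∀ m, g m = h.rz β m := fun _ => rfl
  have hgs : ∀ m, g.symm m = h.rz β⁻¹ m := fun _ => rfl
  -- `f`
  obtain ⟨f, hf, hf0⟩ := Sy.exists_ne 1
  obtain ⟨m, hm⟩ := Sy.exists_hyp hf0
  have h1m : TRp.Hyp v Φ 1 m := ⟨f, hf, hm⟩
  obtain ⟨f, hf, hfm⟩ := Sy.surj hI h1m 1
  obtain ⟨fs, hfs, hfs1⟩ := Sy.surj hI (Sy.symm h1m) 1
  have hf0 : f ≠ 0 := by
    rintro rfl
    rw [LinearMap.zero_apply] at hfm
    exact zero_ne_one hfm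
  have hgo : g (v 1) = v 1 := by
    rw [hg, hv1]
    exact h.rp_cV hbV
  have hgf : ∀ w, f (g w) = f w := by
    intro w
    obtain ⟨a, ha, hae⟩ := (hΦ 1 f).1 hf
    have hab : β * a = a * β := Subtype.ext (mem_centralizer_iff.1 hb _ ha).symm
    have h1 : h.rz a w = w + f w • v 1 := by
      have := hae w
      rwa [one_mul, inv_one, mul_one] at this
    have h1' : h.rz a (g w) = g w + f (g w) • v 1 := by
      have := hae (g w)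
      rwa [one_mul, inv_one, mul_one] at this
    have h2 : g (h.rz a w) = h.rz a (g w) := by
      rw [hg, hg, ← Mix.r_mul, ← Mix.r_mul, hab]
    rw [h1, h1', map_add, map_smul, hgo, add_right_inj] at h2
    have h3 : v 1 ≠ 0 := by rw [hv1]; exact h.v0_ne
    exact smul_left_injective F h3 h2.symm
  have hk : v (β * m) = g (v m) := by rw [hv, hv, hg, Mix.r_mul]
  have hk' : fs ∘ₗ (g.symm : h.MF →ₗ[F] h.MF) ∈ Φ (β * m) := by
    rw [hΦ]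
    obtain ⟨a, ha, hae⟩ := (hΦ m fs).1 hfs
    refine ⟨a, ha, fun x => ?_⟩
    have e : β * m * a * (β * m)⁻¹ = β * (m * a * m⁻¹) * β⁻¹ := by group
    rw [e, Mix.r_mul, Mix.r_mul, ← hgs, hae, ← hg, map_add, map_smul, LinearEquiv.apply_symm_apply, hk]
    rfl
  -- `g²`
  obtain ⟨φ, hφ⟩ := h.tr_phi htr hb2
  have hββ : (⟨b * b, h.one.W_le_C h.pY hb2⟩ : centralizer (Z : Set G)) = β * β := rfl
  have hφΦ : φ ∈ Φ 1 := by
    rw [hΦ]
    refine ⟨⟨b * b, h.one.W_le_C h.pY hb2⟩, hb2, fun x => ?_⟩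
    rw [one_mul, inv_one, mul_one, hφ, hv1]
  obtain ⟨s, hs⟩ := Sy.prop hI hf hf0 hφΦ
  have h0 : s = 0 := by
    refine Sy.end_sq hI hf hfm hfs hfs1 g hgo hgf hk hk' (s := s) fun w => ?_
    have h1 := hφ w
    rw [hββ, Mix.r_mul] at h1
    rw [hg, hg, h1, hs, hv1]
    rfl
  refine hbE (h.mem_ee_of_rz hb2 fun x => ?_)
  rw [hφ, hs, h0, zero_smul, LinearMap.zero_apply, zero_smul, add_zero]

end Co

end Cfsg.Agent.Omega.NO3S.OneQ

end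

section


/-!
# NO-3S, `OneQ`, case (TR): the torus numbers (bb OMEGA #20607 (3.4), #21595)

`PreDat h` : a functional `f ≠ 0` of `MF` and `δ : F ≃+ F` such that `w'^n` acts on `MF` as
`1 + δ(f(w')) f ⊗ v₀` for `w' ∈ W_Z`.

* `PreDat.zero`, `PreDat.ee_dd` : `f(w) = 0` iff `w ∈ D_Z = E_Z`; `PreDat.com` : the commutator formula;
* `PreDat.scal` : `g ∈ N_G(V)` which acts on `Z` as a scalar multiplies `f` by a scalar;
* `PreDat.rel_tor` : `δ(μ a) = μ ζ δ(a)`; `PreDat.rel_h` : `δ(c a) = c⁻¹ μ δ(a)`;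
* `PreDat.toDat` : `TrE.Dat h`.
-/

set_option autoImplicit false
set_option linter.unusedSectionVars false

namespace Cfsg.Agent.Omega.NO3S.OneQ.TrE

open Subgroup Cfsg.Agent.Omega.NO3S.PT Cfsg.Agent.Omega.NoFF.Basic
open scoped Pointwise

universe u

variable {G : Type u} [Group G]

/-- a functional and `δ` -/
structure PreDat [Finite G] {F : Type*} [Field F] [CharP F 2] {S : Sylow 2 G} {B P V Z : Subgroup G}
    (h : Co F S B P V Z) where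
  f : Module.Dual F h.MF
  f0 : f ≠ 0
  δ : F ≃+ F
  ag : ∀ (w : G) (hw : w ∈ ws V Z) (m : h.MF),
    h.rz ⟨h.sw * w * h.sw⁻¹, h.one.W_le_C h.pY (h.sw_W hw)⟩ m = m + (δ (f (h.fm ⟨w, hw⟩)) * f m) • h.v0

namespace PreDat

variable [Finite G] {F : Type*} [Field F] [CharP F 2] {S : Sylow 2 G} {B P V Z : Subgroup G}
  {h : Co F S B P V Z} (D : PreDat h)

open Classical in
/-- the functional on `W_Z` -/
noncomputable def φ (g : G) : F := if hg : g ∈ ws V Z then D.f (h.fm ⟨g, hg⟩) else 0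

theorem φ_eq {w : G} (hw : w ∈ ws V Z) : D.φ w = D.f (h.fm ⟨w, hw⟩) := dif_pos hw

theorem φ_mul {w w' : G} (hw : w ∈ ws V Z) (hw' : w' ∈ ws V Z) : D.φ (w * w') = D.φ w + D.φ w' := by
  rw [D.φ_eq hw, D.φ_eq hw', D.φ_eq (mul_mem hw hw'), ← map_add, ← h.fm_mul]
  rfl

theorem exists_one : ∃ m, D.f m = 1 := by
  obtain ⟨m, hm⟩ : ∃ m, D.f m ≠ 0 := by
    by_contra hcon
    push Not at hcon
    exact D.f0 (LinearMap.ext hcon)
  exact ⟨(D.f m)⁻¹ • m, by rw [map_smul, smul_eq_mul, inv_mul_cancel₀ hm]⟩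

theorem φ_surj (a : F) : ∃ w ∈ ws V Z, D.φ w = a := by
  obtain ⟨m, hm⟩ := D.exists_one
  obtain ⟨w, hw⟩ := h.fm_surj (a • m)
  refine ⟨w, w.2, ?_⟩
  rw [D.φ_eq w.2]
  show D.f (h.fm w) = a
  rw [hw, map_smul, hm, smul_eq_mul, mul_one]

theorem φ_lin {w w' : G} {c : F} (hw : w ∈ ws V Z) (hw' : w' ∈ ws V Z)
    (hc : ∀ k ∈ kx V Z, h.fn w' k = c * h.fn w k) : D.φ w' = c * D.φ w := by
  rw [D.φ_eq hw, D.φ_eq hw', ← smul_eq_mul, ← map_smul]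
  congr 1
  exact Subtype.ext (funext fun k => hc k k.2)

/-- the second coordinate of the commutator -/
theorem comY {w w' : G} (hw : w ∈ ws V Z) (hw' : w' ∈ ws V Z) :
    ∃ x, w * (h.sw * w' * h.sw⁻¹) * w⁻¹ * (h.sw * w' * h.sw⁻¹)⁻¹ = h.e x (D.δ (D.φ w') * D.φ w) := by
  obtain ⟨x, hx, hxe, e⟩ := h.rp_W h.pY h.Yp_ne (h.sw_W hw') ⟨w, hw⟩
  have e' : h.rz ⟨h.sw * w' * h.sw⁻¹, h.one.W_le_C h.pY (h.sw_W hw')⟩ (h.fm ⟨w, hw⟩) - h.fm ⟨w, hw⟩ =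
    h.fm ⟨x, h.one.I_le_W' hx⟩ := e
  rw [D.ag w' hw', add_sub_cancel_left, ← D.φ_eq hw, ← D.φ_eq hw', ← h.fm_e 0] at e'
  have h1 := (h.fm_I_eq (h.one.pl.V_le_IV (h.e_memV 0 _)) hx).1 e'
  obtain ⟨a, ha⟩ := (h.mem_Z _).1 h1
  refine ⟨a, ?_⟩
  have h2 : x = h.e a (D.δ (D.φ w') * D.φ w) := by
    have h3 : x = (h.e a 0)⁻¹ * h.e 0 (D.δ (D.φ w') * D.φ w) := by rw [ha]; group
    rw [h3, h.e_inv, ← h.e_add, add_zero, zero_add]
  rw [← h.e_inv, ← h2, hxe]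
  show _ = (h.sw * w' * h.sw⁻¹ * w * (h.sw * w' * h.sw⁻¹)⁻¹ * w⁻¹)⁻¹
  group

theorem ee_φ {w : G} (hw : w ∈ ee V Z Z) : D.φ w = 0 := by
  obtain ⟨w₂, hw₂, h2⟩ := D.φ_surj 1
  obtain ⟨x, hx⟩ := D.comY hw₂ (ee_le hw)
  have h3 := h.one.ee_act' h.one.self h.Yp_ne.symm (h.sw_ee.2 hw) hw₂
  rw [hx, h.e_memZ_iff, h2, mul_one] at h3
  exact (map_eq_zero_iff D.δ D.δ.injective).1 h3

theorem φ_dd {w : G} (hw : w ∈ ws V Z) (h0 : D.φ w = 0) : w ∈ dd V Z Z := by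
  have h1 : h.sw * w * h.sw⁻¹ ∈ ee V Z h.Yp := by
    refine h.one.mem_ee_of h.pY h.one.self h.Yp_ne.symm (h.sw_W hw) fun u hu => ?_
    obtain ⟨x, hx⟩ := D.comY hu hw
    rw [h0, map_zero, zero_mul] at hx
    have h2 : u * (h.sw * w * h.sw⁻¹) * u⁻¹ * (h.sw * w * h.sw⁻¹)⁻¹ ∈ Z := by
      rw [hx]; exact h.e_memZ x
    have h3 := inv_mem h2
    have e : (u * (h.sw * w * h.sw⁻¹) * u⁻¹ * (h.sw * w * h.sw⁻¹)⁻¹)⁻¹ =
        h.sw * w * h.sw⁻¹ * u * (h.sw * w * h.sw⁻¹)⁻¹ * u⁻¹ := by group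
    rwa [e] at h3
  have hwE := h.sw_ee.1 h1
  refine h.one.mem_dd_of h.one.self h.pY h.Yp_ne hw fun u hu => ?_
  have hu' := h.sw_inv_W hu
  have eu : h.sw * (h.sw⁻¹ * u * h.sw) * h.sw⁻¹ = u := by group
  obtain ⟨x, hx⟩ := D.comY hw hu'
  rw [h0, mul_zero, eu] at hx
  have h2 : w * u * w⁻¹ * u⁻¹ ∈ Z ⊓ h.Yp := ⟨by rw [hx]; exact h.e_memZ x, h.one.ee_act h.pY h.Yp_ne hwE hu⟩
  rw [h.one.pl.pts_inf h.one.self.cj h.pY.cj h.Yp_ne.symm, mem_bot, mul_inv_eq_one, mul_inv_eq_iff_eq_mul] at h2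
  exact h2

theorem zero {w : G} (hw : w ∈ ws V Z) : D.φ w = 0 ↔ w ∈ dd V Z Z :=
  ⟨D.φ_dd hw, fun h1 => D.ee_φ (h.one.dd_le_ee h.one.self h1)⟩

include D in
theorem ee_dd : ee V Z Z = dd V Z Z :=
  le_antisymm (fun _ hw => D.φ_dd (ee_le hw) (D.ee_φ hw)) (h.one.dd_le_ee h.one.self)

theorem φ_yl {k w : G} (hk : k ∈ yl V Z) (hw : w ∈ ws V Z) :
    k * w * k⁻¹ ∈ ws V Z ∧ D.φ (k * w * k⁻¹) = D.φ w := by
  have h1 := h.one.yl_ee h.one.self hk hw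
  have e : k * w * k⁻¹ = k * w * k⁻¹ * w⁻¹ * w := by group
  refine ⟨by rw [e]; exact mul_mem (ee_le h1) hw, ?_⟩
  rw [e, D.φ_mul (ee_le h1) hw, D.ee_φ h1, zero_add]

/-- the commutator formula -/
theorem com {w w' : G} (hw : w ∈ ws V Z) (hw' : w' ∈ ws V Z) :
    w * (h.sw * w' * h.sw⁻¹) * w⁻¹ * (h.sw * w' * h.sw⁻¹)⁻¹ =
      h.e (D.δ (D.φ w) * D.φ w') (D.δ (D.φ w') * D.φ w) := by
  obtain ⟨x, hx⟩ := D.comY hw hw'
  obtain ⟨x', hx'⟩ := D.comY hw' hw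
  set u := h.sw * w' * h.sw⁻¹ with hu
  set a := h.sw * w * h.sw⁻¹ with ha
  -- conjugate by `sw`
  have h1 : h.sw * (w * u * w⁻¹ * u⁻¹) * h.sw⁻¹ = h.e (D.δ (D.φ w') * D.φ w) x := by rw [hx, h.sw_act]
  obtain ⟨hW2, -⟩ := D.φ_yl h.sw_sq hw'
  have hd : h.sw * u * h.sw⁻¹ * w'⁻¹ ∈ dd V Z Z := by
    rw [← D.ee_dd]
    have h2 := h.one.yl_ee h.one.self h.sw_sq hw'
    have e : h.sw * h.sw * w' * (h.sw * h.sw)⁻¹ * w'⁻¹ = h.sw * u * h.sw⁻¹ * w'⁻¹ := by rw [hu]; group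
    rwa [e] at h2
  set d := h.sw * u * h.sw⁻¹ * w'⁻¹ with hddef
  have haY : a ∈ ws V h.Yp := h.sw_W hw
  have hda : d * a = a * d := h.one.dd_comm h.pY h.Yp_ne hd haY
  have h3 : h.sw * (w * u * w⁻¹ * u⁻¹) * h.sw⁻¹ = a * (d * w') * a⁻¹ * (d * w')⁻¹ := by rw [hddef, ha]; group
  have h4 : a * (d * w') * a⁻¹ * (d * w')⁻¹ = d * (w' * a * w'⁻¹ * a⁻¹)⁻¹ * d⁻¹ := by
    calc a * (d * w') * a⁻¹ * (d * w')⁻¹ = (a * d) * w' * a⁻¹ * w'⁻¹ * d⁻¹ := by group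
      _ = d * (w' * a * w'⁻¹ * a⁻¹)⁻¹ * d⁻¹ := by rw [← hda]; group
  have hdV : d ∈ centralizer (V : Set G) := h.one.W_le_cent h.one.self (dd_le hd)
  rw [h3, h4, hx', h.e_inv, h.comm_e hdV] at h1
  obtain ⟨-, h5⟩ := h.e_inj h1
  rw [hx, ← h5]

/-- an element of `N_G(V)` which acts on `Z` as a scalar multiplies `f` by a scalar -/
theorem scal {g : G} (hg : g ∈ h.hat) (hgV : g ∈ normalizer (V : Set G)) :
    ∃ μ : F, μ ≠ 0 ∧ ∀ w ∈ ws V Z, g * w * g⁻¹ ∈ ws V Z ∧ D.φ (g * w * g⁻¹) = μ * D.φ w := by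
  have hgN := h.hat_norm hg
  have hgd : PT.cj g (dd V Z Z) = dd V Z Z := by rw [cj_dd hgV, cj_eq_iff.2 hgN]
  have hf : ∀ w (hw : w ∈ ws V Z), D.f (h.rp ⟨g, hg⟩ (h.fm ⟨w, hw⟩)) = D.φ (g * w * g⁻¹) := by
    intro w hw
    rw [h.rp_fm' hg hw, D.φ_eq (h.W_conj hgN hw)]
  have hk : ∀ m, D.f m = 0 → D.f (h.rp ⟨g, hg⟩ m) = 0 := by
    intro m hm
    obtain ⟨⟨w, hw⟩, rfl⟩ := h.fm_surj m
    rw [hf w hw, D.zero (h.W_conj hgN hw), ← hgd]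
    exact conj_mem_cj ((D.zero hw).1 (by rw [D.φ_eq hw, hm]))
  obtain ⟨m₀, hm₀⟩ := D.exists_one
  have hμ : ∀ m, D.f (h.rp ⟨g, hg⟩ m) = D.f (h.rp ⟨g, hg⟩ m₀) * D.f m := by
    intro m
    have h1 := hk (m - D.f m • m₀) (by rw [map_sub, map_smul, hm₀, smul_eq_mul, mul_one, sub_self])
    rw [map_sub, map_sub, map_smul, map_smul, sub_eq_zero, smul_eq_mul] at h1
    rw [h1, mul_comm]
  refine ⟨D.f (h.rp ⟨g, hg⟩ m₀), ?_, fun w hw => ⟨h.W_conj hgN hw, ?_⟩⟩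
  · intro h0
    have h1 := hμ (h.rp ⟨g, hg⟩⁻¹ m₀)
    rw [h0, zero_mul, ← Module.End.mul_apply, ← map_mul, mul_inv_cancel, map_one, Module.End.one_apply, hm₀] at h1
    exact one_ne_zero h1
  · rw [← hf w hw, hμ, ← D.φ_eq hw]

/-- the torus -/
theorem rel_tor {τ : G} {ζ : F} (hτ : h.Tor τ ζ) (hζ : ζ ≠ 0) :
    ∃ μ : F, μ ≠ 0 ∧ (∀ w ∈ ws V Z, D.φ (τ * w * τ⁻¹) = μ * D.φ w) ∧ ∀ a, D.δ (μ * a) = μ * ζ * D.δ a := by
  obtain ⟨μ, hμ, hw⟩ := D.scal (hτ.hat hζ) hτ.norm_V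
  refine ⟨μ, hμ, fun w hw' => (hw w hw').2, fun a => ?_⟩
  obtain ⟨w, hwW, hw1⟩ := D.φ_surj 1
  obtain ⟨w₂, hw₂W, hw₂⟩ := D.φ_surj a
  -- `w' = τ w₂ τ⁻¹`
  obtain ⟨hw'W, hw'⟩ := hw w₂ hw₂W
  set w' := τ * w₂ * τ⁻¹ with hw'def
  have hy : h.sw⁻¹ * τ * h.sw * τ ∈ yl V Z := by
    rw [← h.XV_cent]
    refine ⟨(XV V Z).mul_mem ((XV V Z).mul_mem ((XV V Z).mul_mem ((XV V Z).inv_mem h.sw_XV) hτ.mem) h.sw_XV) hτ.mem,
      h.mem_cent fun x y => ?_⟩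
    have e : h.sw⁻¹ * τ * h.sw * τ * h.e x y * (h.sw⁻¹ * τ * h.sw * τ)⁻¹ =
        h.sw⁻¹ * (τ * (h.sw * (τ * h.e x y * τ⁻¹) * h.sw⁻¹) * τ⁻¹) * h.sw := by group
    rw [e, hτ.act, h.sw_act, hτ.act, h.sw_act', mul_inv_cancel_left₀ hζ, inv_mul_cancel_left₀ hζ]
  obtain ⟨hyW, hyφ⟩ := D.φ_yl hy hw₂W
  set w'' := h.sw⁻¹ * τ * h.sw * τ * w₂ * (h.sw⁻¹ * τ * h.sw * τ)⁻¹ with hw''
  have h1 := D.com hwW hw'W
  have h2 := D.com (hw w hwW).1 hyW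
  have e : τ * (w * (h.sw * w' * h.sw⁻¹) * w⁻¹ * (h.sw * w' * h.sw⁻¹)⁻¹) * τ⁻¹ =
      τ * w * τ⁻¹ * (h.sw * w'' * h.sw⁻¹) * (τ * w * τ⁻¹)⁻¹ * (h.sw * w'' * h.sw⁻¹)⁻¹ := by
    rw [hw'', hw'def]; group
  rw [h1, hτ.act, h2] at e
  obtain ⟨-, h3⟩ := h.e_inj e
  rw [(hw w hwW).2, hyφ, hw', hw1, hw₂, mul_one, mul_one] at h3
  -- `ζ⁻¹ δ(μ a) = δ(a) μ`
  rw [inv_mul_eq_iff_eq_mul₀ hζ] at h3
  rw [h3]
  ring

/-- the elements `h_c` -/
theorem diag_of {g : G} {c : F} (hg : g ∈ centralizer (Z : Set G)) (hgY : PT.cj g h.Yp = h.Yp)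
    (hc : h.rz ⟨g, hg⟩ h.v0 = c • h.v0) (x y : F) : g * h.e x y * g⁻¹ = h.e x (c * y) := by
  have h1 : g * h.e x 0 * g⁻¹ = h.e x 0 := by
    rw [(mem_centralizer_iff.1 hg _ (h.e_memZ x)).symm, mul_inv_cancel_right]
  have h2 : g * h.e 0 y * g⁻¹ ∈ h.Yp := by
    rw [← hgY]
    exact conj_mem_cj (h.e_memY y)
  obtain ⟨y', hy'⟩ := (h.mem_Yp).1 h2
  have h3 := h.rz_fm hg (h.W_V 0 y)
  rw [h.fm_e 0 y, map_smul, hc, smul_smul] at h3
  have h4 : h.fm ⟨g * h.e 0 y * g⁻¹, h.W_conj (centralizer_le_normalizer _ hg) (h.W_V 0 y)⟩ = y' • h.v0 := by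
    rw [← h.fm_e 0 y']
    congr 1
    exact Subtype.ext hy'.symm
  rw [h4] at h3
  have h5 : y * c = y' := smul_left_injective F h.v0_ne h3
  have e : h.e x y = h.e x 0 * h.e 0 y := by rw [← h.e_add, add_zero, zero_add]
  have e2 : g * (h.e x 0 * h.e 0 y) * g⁻¹ = g * h.e x 0 * g⁻¹ * (g * h.e 0 y * g⁻¹) := by group
  rw [e, e2, h1, ← hy', ← h.e_add, add_zero, zero_add, ← h5, mul_comm y c]

theorem rel_h {τ g : G} {c μ : F} (hτ : h.Tor τ c) (hc : c ≠ 0)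
    (hμ : ∀ w ∈ ws V Z, D.φ (τ * w * τ⁻¹) = μ * D.φ w) (hμδ : ∀ a, D.δ (μ * a) = μ * c * D.δ a)
    (hg : g ∈ centralizer (Z : Set G)) (hgV : g ∈ normalizer (V : Set G)) (hgc : h.rz ⟨g, hg⟩ h.v0 = c • h.v0)
    (hgf : ∀ m, D.f (h.rz ⟨g, hg⟩ m) = c⁻¹ * D.f m) (a : F) : D.δ (c * a) = c⁻¹ * μ * D.δ a := by
  -- make `g` fix `Y`
  obtain ⟨g, hg, hgV, hgc, hgf, hgY⟩ : ∃ g, ∃ hg : g ∈ centralizer (Z : Set G), g ∈ normalizer (V : Set G) ∧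
      h.rz ⟨g, hg⟩ h.v0 = c • h.v0 ∧ (∀ m, D.f (h.rz ⟨g, hg⟩ m) = c⁻¹ * D.f m) ∧ PT.cj g h.Yp = h.Yp := by
    have hgZ : PT.cj g Z = Z := cj_eq_iff.2 (centralizer_le_normalizer _ hg)
    have hne : PT.cj g h.Yp ≠ Z := fun e => h.Yp_ne (cj_inj.1 (e.trans hgZ.symm))
    obtain ⟨k, hk, hkY⟩ := h.one.move h.one.self (h.pY.conj hgV) h.pY hne h.Yp_ne
    have hkC := kx_le_cent hk
    have hkm : ∀ m, h.rz ⟨k * g, mul_mem hkC hg⟩ m = h.rz ⟨g, hg⟩ m := by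
      intro m
      rw [h.rz_mul hkC hg]
      exact h.rp_K hk _
    refine ⟨k * g, mul_mem hkC hg, mul_mem (h.one.K_norm h.one.self hk) hgV, ?_, fun m => ?_, ?_⟩
    · rw [hkm, hgc]
    · rw [hkm, hgf]
    · rw [← cj_cj, hkY]
  have hact := diag_of (h := h) hg hgY hgc
  have hk1 : ∀ x y, h.sw⁻¹ * g * h.sw * h.e x y * (h.sw⁻¹ * g * h.sw)⁻¹ = h.e (c * x) y := by
    intro x y
    have e : h.sw⁻¹ * g * h.sw * h.e x y * (h.sw⁻¹ * g * h.sw)⁻¹ = h.sw⁻¹ * (g * (h.sw * h.e x y * h.sw⁻¹) * g⁻¹) * h.sw := by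
      group
    rw [e, h.sw_act, hact, h.sw_act']
  have hkV : h.sw⁻¹ * g * h.sw ∈ normalizer (V : Set G) := mul_mem (mul_mem (inv_mem h.sw_N) hgV) h.sw_N
  have hkZ : h.sw⁻¹ * g * h.sw ∈ normalizer (Z : Set G) := by
    rw [← cj_eq_iff]
    exact h.cj_Z_of (f := fun x => c * x) (fun x => ⟨c⁻¹ * x, mul_inv_cancel_left₀ hc x⟩) fun x => hk1 x 0
  have hkh : h.sw⁻¹ * g * h.sw ∈ h.hat := ⟨hkZ, Units.mk0 c hc, fun x => hk1 x 0⟩
  obtain ⟨ν, hν, hkw⟩ := D.scal hkh hkV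
  -- `φ(g w g⁻¹) = c⁻¹ φ(w)`
  have hgw : ∀ w ∈ ws V Z, g * w * g⁻¹ ∈ ws V Z ∧ D.φ (g * w * g⁻¹) = c⁻¹ * D.φ w := by
    intro w hw
    have h1 := h.W_conj (centralizer_le_normalizer _ hg) hw
    refine ⟨h1, ?_⟩
    rw [D.φ_eq h1, D.φ_eq hw, ← hgf, h.rz_fm hg hw]
  -- `ρ`
  have hρ : g⁻¹ * τ⁻¹ * (h.sw⁻¹ * g * h.sw) ∈ yl V Z := by
    rw [← h.XV_cent]
    constructor
    · have h1 : g⁻¹ * (τ⁻¹ * h.sw⁻¹) * g⁻¹⁻¹ ∈ XV V Z :=
        (mem_normalizer_iff.1 (normalizer_le_XV V Z (inv_mem hgV)) _).1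
          ((XV V Z).mul_mem ((XV V Z).inv_mem hτ.mem) ((XV V Z).inv_mem h.sw_XV))
      have e : g⁻¹ * τ⁻¹ * (h.sw⁻¹ * g * h.sw) = g⁻¹ * (τ⁻¹ * h.sw⁻¹) * g⁻¹⁻¹ * h.sw := by group
      rw [e]
      exact (XV V Z).mul_mem h1 h.sw_XV
    · refine h.mem_cent fun x y => ?_
      have e : g⁻¹ * τ⁻¹ * (h.sw⁻¹ * g * h.sw) * h.e x y * (g⁻¹ * τ⁻¹ * (h.sw⁻¹ * g * h.sw))⁻¹ =
          g⁻¹ * (τ⁻¹ * (h.sw⁻¹ * g * h.sw * h.e x y * (h.sw⁻¹ * g * h.sw)⁻¹) * τ) * g := by group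
      have e1 : τ⁻¹ * h.e (c * x) y * τ = h.e x (c * y) := by
        have h1 := hτ.act x (c * y)
        rw [inv_mul_cancel_left₀ hc] at h1
        rw [← h1]; group
      have e2 : g⁻¹ * h.e x (c * y) * g = h.e x y := by
        rw [← hact x y]; group
      rw [e, hk1, e1, e2]
  -- `ν = μ c⁻¹`
  have hνμ : ν = μ * c⁻¹ := by
    obtain ⟨w, hwW, hw1⟩ := D.φ_surj 1
    obtain ⟨h1, h2⟩ := D.φ_yl hρ hwW
    obtain ⟨h3, h4⟩ := hgw _ h1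
    have h5 := hμ _ h3
    have e : τ * (g * (g⁻¹ * τ⁻¹ * (h.sw⁻¹ * g * h.sw) * w * (g⁻¹ * τ⁻¹ * (h.sw⁻¹ * g * h.sw))⁻¹) * g⁻¹) * τ⁻¹ =
        h.sw⁻¹ * g * h.sw * w * (h.sw⁻¹ * g * h.sw)⁻¹ := by group
    rw [e, (hkw w hwW).2, h4, h2, hw1, mul_one, mul_one] at h5
    exact h5
  -- conjugate the commutator by `g`
  have h6 : ∀ b, D.δ (ν * b) = c * c * D.δ b := by
    intro b
    obtain ⟨w, hwW, hw1⟩ := D.φ_surj 1
    obtain ⟨w', hw'W, hw'⟩ := D.φ_surj b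
    have h1 := D.com hwW hw'W
    have h2 := D.com (hgw w hwW).1 (hkw w' hw'W).1
    have e : g * (w * (h.sw * w' * h.sw⁻¹) * w⁻¹ * (h.sw * w' * h.sw⁻¹)⁻¹) * g⁻¹ =
        g * w * g⁻¹ * (h.sw * (h.sw⁻¹ * g * h.sw * w' * (h.sw⁻¹ * g * h.sw)⁻¹) * h.sw⁻¹) * (g * w * g⁻¹)⁻¹ *
          (h.sw * (h.sw⁻¹ * g * h.sw * w' * (h.sw⁻¹ * g * h.sw)⁻¹) * h.sw⁻¹)⁻¹ := by group
    rw [h1, hact, h2] at e
    obtain ⟨-, h3⟩ := h.e_inj e
    rw [(hgw w hwW).2, (hkw w' hw'W).2, hw1, hw', mul_one, mul_one] at h3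
    -- `c δ(b) = δ(ν b) c⁻¹`
    rw [eq_comm, mul_inv_eq_iff_eq_mul₀ hc] at h3
    rw [h3]
    ring
  have hμ0 : μ ≠ 0 := by
    rintro rfl
    rw [zero_mul] at hνμ
    exact hν hνμ
  -- `δ(μ c⁻¹ b) = c² δ(b)`, `b = c a`
  have h7 := h6 (c * a)
  rw [hνμ] at h7
  have e : μ * c⁻¹ * (c * a) = μ * a := by
    field_simp
  rw [e, hμδ] at h7
  -- `μ c δ(a) = c² δ(c a)`
  have h8 : c * c * (c⁻¹ * μ * D.δ a) = c * c * D.δ (c * a) := by
    rw [← h7]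
    field_simp
  exact (mul_left_cancel₀ (mul_ne_zero hc hc) h8).symm

/-- **(3.4)** -/
theorem toDat (hh : ∀ c : F, c ≠ 0 → ∃ g, ∃ hg : g ∈ centralizer (Z : Set G), g ∈ normalizer (V : Set G) ∧
    h.rz ⟨g, hg⟩ h.v0 = c • h.v0 ∧ ∀ m, D.f (h.rz ⟨g, hg⟩ m) = c⁻¹ * D.f m) : Nonempty (Dat h) := by
  have hδ1 : D.δ 1 ≠ 0 := fun e => one_ne_zero ((map_eq_zero_iff D.δ D.δ.injective).1 e)
  have key : ∀ c : F, c ≠ 0 → ∀ τ, h.Tor τ c → ∃ μ : F, (∀ w ∈ ws V Z, D.φ (τ * w * τ⁻¹) = μ * D.φ w) ∧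
      (∀ a, D.δ (μ * a) = μ * c * D.δ a) ∧ ∀ a, D.δ (c * a) = c⁻¹ * μ * D.δ a := by
    intro c hc τ hτ
    obtain ⟨μ, -, h1, h2⟩ := D.rel_tor hτ hc
    obtain ⟨g, hg, hgV, hgc, hgf⟩ := hh c hc
    exact ⟨μ, h1, h2, D.rel_h hτ hc h1 h2 hg hgV hgc hgf⟩
  have hs : ∀ c a : F, D.δ (c * a) = D.δ c / D.δ 1 * D.δ a := by
    intro c a
    by_cases hc : c = 0
    · rw [hc, zero_mul, map_zero, zero_div, zero_mul]
    obtain ⟨τ, hτ⟩ := h.exists_tor hc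
    obtain ⟨μ, -, -, h3⟩ := key c hc τ hτ
    have h4 := h3 1
    rw [mul_one] at h4
    rw [h4, h3 a, mul_div_cancel_right₀ _ hδ1]
  let θ : F →+* F :=
    { toFun := fun c => D.δ c / D.δ 1
      map_one' := div_self hδ1
      map_zero' := by rw [map_zero, zero_div]
      map_add' := fun a b => by rw [map_add, add_div]
      map_mul' := fun a b => by rw [hs a b, mul_div_assoc] }
  have hθ : ∀ c, θ c = D.δ c / D.δ 1 := fun _ => rfl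
  have hδθ : ∀ c, D.δ c = D.δ 1 * θ c := fun c => by rw [hθ, mul_div_cancel₀ _ hδ1]
  have hμ : ∀ c : F, c ≠ 0 → ∀ τ, h.Tor τ c → (∀ w ∈ ws V Z, D.φ (τ * w * τ⁻¹) = c * θ c * D.φ w) ∧
      θ (c * θ c) = c * θ c * c := by
    intro c hc τ hτ
    obtain ⟨μ, h1, h2, h3⟩ := key c hc τ hτ
    have h4 := h3 1
    rw [mul_one] at h4
    have h5 : μ = c * θ c := by
      rw [hθ, h4, mul_div_cancel_right₀ _ hδ1, ← mul_assoc, mul_inv_cancel₀ hc, one_mul]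
    have h6 := h2 1
    rw [mul_one] at h6
    refine ⟨fun w hw => by rw [h1 w hw, h5], ?_⟩
    rw [← h5, hθ, h6, mul_div_cancel_right₀ _ hδ1]
  refine ⟨⟨θ, D.δ 1, D.φ, ?_, hδ1, D.φ_mul, D.zero, D.φ_surj, D.φ_lin, ?_, D.ee_dd, ?_⟩⟩
  · intro a
    by_cases ha : a = 0
    · rw [ha, map_zero, map_zero, mul_zero]
    obtain ⟨τ, hτ⟩ := h.exists_tor ha
    have h1 := (hμ a ha τ hτ).2
    rw [map_mul] at h1
    have h2 : θ a ≠ 0 := fun e => ha ((map_eq_zero θ).1 e)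
    refine mul_left_cancel₀ h2 ?_
    rw [h1]
    ring
  · intro τ w ζ hτ hζ hw
    exact (hμ ζ hζ τ hτ).1 w hw
  · intro w w' hw hw'
    rw [D.com hw hw', hδθ (D.φ w), hδθ (D.φ w')]
    congr 1 <;> ring

end PreDat

end Cfsg.Agent.Omega.NO3S.OneQ.TrE

end

section


/-!
# NO-3S, `OneQ`, case (TR): the elements `h_c` (bb OMEGA #20607 (3.4), #21595)

* `Co.W_norm_sup` : `W_Y` normalises `V V^j`, `j ∈ C_G(Z)`;
* `Co.norm_of_scal` : `x ∈ C_G(Z)` which normalises `V V^j` and fixes the point `v₀` normalises `V` if `v₀`, `j v₀` are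
  independent;
* `Co.exists_h` : for `c ≠ 0` there is `g ∈ C_G(Z) ∩ N_G(V)`, `g v₀ = c v₀`, `f ∘ g = c⁻¹ f`.
-/

set_option autoImplicit false
set_option linter.unusedSectionVars false

namespace Cfsg.Agent.Omega.NO3S.OneQ

open Subgroup Cfsg.Agent.Omega.NO3S.PT Cfsg.Agent.Omega.NoFF.Basic
open scoped Pointwise

universe u

variable {G : Type u} [Group G]

theorem norm_of_cj_le [Finite G] {x : G} {V : Subgroup G} (hx : PT.cj x V ≤ V) : x ∈ normalizer (V : Set G) := by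
  rw [← cj_eq_iff]
  refine Subgroup.eq_of_le_of_card_ge hx ?_
  exact le_of_eq (Nat.card_congr (Subgroup.equivSMul (MulAut.conj x) V).toEquiv)

namespace Co

variable [Finite G] {F : Type*} [Field F] [CharP F 2] {S : Sylow 2 G} {B P V Z : Subgroup G} (h : Co F S B P V Z)

/-- `W_Y` normalises `V V^j` -/
theorem W_norm_sup (htr : ∀ w ∈ ws V Z, ∀ u ∈ ws V h.Yp, w * u * w⁻¹ * u⁻¹ ∈ V) {j : G}
    (hj : j ∈ centralizer (Z : Set G)) : ws V h.Yp ≤ normalizer ((V ⊔ PT.cj j V : Subgroup G) : Set G) := by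
  intro a ha
  apply norm_of_cj_le
  rw [PT.cj, Subgroup.smul_sup]
  refine sup_le ?_ ?_
  · have h1 : PT.cj a V = V := cj_eq_iff.2 (centralizer_le_normalizer _ (h.one.W_le_cent h.pY ha))
    exact (le_of_eq h1).trans le_sup_left
  · intro x hx
    have hx' : a⁻¹ * x * a ∈ PT.cj j V := mem_cj.1 hx
    set v := a⁻¹ * x * a with hv
    have hxv : x = a * v * a⁻¹ * v⁻¹ * v := by rw [hv]; group
    have hvW : v ∈ ws V Z := by
      have h1 := hx'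
      rw [mem_cj] at h1
      have h2 := h.W_conj (centralizer_le_normalizer _ hj) (h.one.V_le_W' h1)
      have e : j * (j⁻¹ * v * j) * j⁻¹ = v := by group
      rwa [e] at h2
    have h2 := inv_mem (htr v hvW a ha)
    have e : (v * a * v⁻¹ * a⁻¹)⁻¹ = a * v * a⁻¹ * v⁻¹ := by group
    rw [e] at h2
    rw [hxv]
    exact mul_mem (mem_sup_left h2) (mem_sup_right hx')

theorem Wj_norm_sup (htr : ∀ w ∈ ws V Z, ∀ u ∈ ws V h.Yp, w * u * w⁻¹ * u⁻¹ ∈ V) {j a : G}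
    (hj : j ∈ centralizer (Z : Set G)) (ha : a ∈ ws V h.Yp) :
    j * a * j⁻¹ ∈ normalizer ((V ⊔ PT.cj j V : Subgroup G) : Set G) := by
  have h1 := h.W_norm_sup htr (inv_mem hj) ha
  rw [← cj_eq_iff] at h1 ⊢
  have h2 : PT.cj j (V ⊔ PT.cj j⁻¹ V) = V ⊔ PT.cj j V := by
    rw [PT.cj, Subgroup.smul_sup]
    show PT.cj j V ⊔ PT.cj j (PT.cj j⁻¹ V) = _
    rw [cj_cj, mul_inv_cancel, cj_one, sup_comm]
  rw [← h2, cj_cj]
  have e : j * a * j⁻¹ * j = j * a := by group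
  rw [e, ← cj_cj, h1]

/-- an element which fixes the point `F v₀` -/
theorem norm_of_scal {x j : G} (hx : x ∈ centralizer (Z : Set G)) (hj : j ∈ centralizer (Z : Set G))
    (hxU : x ∈ normalizer ((V ⊔ PT.cj j V : Subgroup G) : Set G)) {c : F} (hxc : h.rz ⟨x, hx⟩ h.v0 = c • h.v0)
    {f : Module.Dual F h.MF} (hf0 : f h.v0 = 0) (hfj : f (h.rz ⟨j, hj⟩ h.v0) ≠ 0) : x ∈ normalizer (V : Set G) := by
  apply norm_of_cj_le
  intro y hy
  rw [mem_cj] at hy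
  set v := x⁻¹ * y * x with hv
  have hyv : y = x * v * x⁻¹ := by rw [hv]; group
  have hyU : y ∈ V ⊔ PT.cj j V := by
    rw [hyv]
    exact (mem_normalizer_iff.1 hxU _).1 (mem_sup_left hy)
  have hVW : V ≤ ws V Z := h.one.V_le_W h.one.self
  have hjVW : PT.cj j V ≤ ws V Z := by
    intro w hw
    rw [mem_cj] at hw
    have h2 := h.W_conj (centralizer_le_normalizer _ hj) (hVW hw)
    have e : j * (j⁻¹ * w * j) * j⁻¹ = w := by group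
    rwa [e] at h2
  have hN : V ≤ normalizer ((PT.cj j V : Subgroup G) : Set G) := by
    have h1 : V ≤ centralizer ((PT.cj j V : Subgroup G) : Set G) := fun v hv => mem_centralizer_iff.2 fun w hw =>
      h.one.comm_W h.one.self.cj (hjVW hw) (hVW hv)
    exact h1.trans (centralizer_le_normalizer _)
  obtain ⟨v₁, hv₁, v₂, hv₂, rfl⟩ := mem_sup_norm hN hyU
  obtain ⟨a, b, hab⟩ := (h.mem_V _).1 hy
  obtain ⟨a₁, b₁, rfl⟩ := (h.mem_V _).1 hv₁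
  rw [mem_cj] at hv₂
  obtain ⟨a₂, b₂, hab₂⟩ := (h.mem_V _).1 hv₂
  have e2 : v₂ = j * h.e a₂ b₂ * j⁻¹ := by rw [hab₂]; group
  have h1 := h.rz_fm hx (h.W_V a b)
  rw [h.fm_e a b, map_smul, hxc] at h1
  have hjW := h.W_conj (centralizer_le_normalizer _ hj) (h.W_V a₂ b₂)
  have h2 : h.fm ⟨x * h.e a b * x⁻¹, h.W_conj (centralizer_le_normalizer _ hx) (h.W_V a b)⟩ =
      h.fm (⟨h.e a₁ b₁, h.W_V a₁ b₁⟩ * ⟨j * h.e a₂ b₂ * j⁻¹, hjW⟩) := by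
    congr 1
    apply Subtype.ext
    show x * h.e a b * x⁻¹ = h.e a₁ b₁ * (j * h.e a₂ b₂ * j⁻¹)
    rw [← e2, hab, ← hyv]
  have h3 := h.rz_fm hj (h.W_V a₂ b₂)
  rw [h.fm_e a₂ b₂, map_smul] at h3
  rw [h2, h.fm_mul, h.fm_e a₁ b₁, ← h3] at h1
  have h4 := congrArg f h1
  rw [map_smul, map_smul, hf0, map_add, map_smul, map_smul, hf0, smul_zero, smul_zero, smul_zero, zero_add,
    smul_eq_mul, eq_comm, mul_eq_zero] at h4
  have h5 : b₂ = 0 := h4.resolve_right hfj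
  rw [e2, h5]
  refine mul_mem (h.e_memV _ _) ?_
  have h6 : j * h.e a₂ 0 * j⁻¹ = h.e a₂ 0 := by
    rw [(mem_centralizer_iff.1 hj _ (h.e_memZ a₂)).symm, mul_inv_cancel_right]
  rw [h6]
  exact h.e_memV _ _

/-- **the elements `h_c`** -/
theorem exists_h [Finite F] (htr : ∀ w ∈ ws V Z, ∀ u ∈ ws V h.Yp, w * u * w⁻¹ * u⁻¹ ∈ V)
    {v : centralizer (Z : Set G) → h.MF} {Φ : centralizer (Z : Set G) → AddSubgroup (Module.Dual F h.MF)}
    (hv : ∀ c, v c = h.rz c h.v0)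
    (hΦ : ∀ c φ, φ ∈ Φ c ↔ ∃ a : centralizer (Z : Set G), (a : G) ∈ ws V h.Yp ∧
      ∀ m, h.rz (c * a * c⁻¹) m = m + φ m • v c)
    (Sy : TRp.Sys F v Φ) (hI : TRp.Inj v Φ) {f : Module.Dual F h.MF} (hf : f ∈ Φ 1) (hf0 : f ≠ 0) {c : F} (hc : c ≠ 0) :
    ∃ g, ∃ hg : g ∈ centralizer (Z : Set G), g ∈ normalizer (V : Set G) ∧
      h.rz ⟨g, hg⟩ h.v0 = c • h.v0 ∧ ∀ m, f (h.rz ⟨g, hg⟩ m) = c⁻¹ * f m := by
  have : Finite h.MF := inferInstance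
  have hv1 : v 1 = h.v0 := by rw [hv, map_one]; rfl
  obtain ⟨j, hj⟩ := Sy.exists_hyp hf0
  -- `f₁`, `f_j`
  set f₁ : Module.Dual F h.MF := (f (v j))⁻¹ • f with hf₁
  have hf₁Φ : f₁ ∈ Φ 1 := Sy.smul_mem hI hf _
  have hf₁j : f₁ (v j) = 1 := by rw [hf₁, LinearMap.smul_apply, smul_eq_mul, inv_mul_cancel₀ hj]
  obtain ⟨fj, hfj, hfj1⟩ := Sy.surj hI (Sy.symm ⟨f, hf, hj⟩) 1
  have hf₁0 : f₁ (v 1) = 0 := Sy.self hf₁Φ
  have hfj0 : fj (v j) = 0 := Sy.self hfj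
  have hT : ∀ c : F, ∃ a : centralizer (Z : Set G), (a : G) ∈ ws V h.Yp ∧ ∀ m, h.rz a m = m + (c * f₁ m) • v 1 := by
    intro c
    obtain ⟨a, ha, hae⟩ := (hΦ 1 _).1 (Sy.smul_mem hI hf₁Φ c)
    refine ⟨a, ha, fun m => ?_⟩
    have := hae m
    rwa [one_mul, inv_one, mul_one] at this
  have hS : ∀ c : F, ∃ a : centralizer (Z : Set G), (a : G) ∈ ws V h.Yp ∧
      ∀ m, h.rz (j * a * j⁻¹) m = m + (c * fj m) • v j := by
    intro c
    obtain ⟨a, ha, hae⟩ := (hΦ j _).1 (Sy.smul_mem hI hfj c)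
    exact ⟨a, ha, fun m => hae m⟩
  -- `w(c)`
  have hw : ∀ c : F, c ≠ 0 → ∃ x : centralizer (Z : Set G),
      (x : G) ∈ normalizer ((V ⊔ PT.cj (j : G) V : Subgroup G) : Set G) ∧ h.rz x (v 1) = c⁻¹ • v j ∧
      h.rz x (v j) = c • v 1 ∧ (∀ m, f₁ (h.rz x m) = c⁻¹ * fj m) ∧ ∀ m, fj (h.rz x m) = c * f₁ m := by
    intro c hc
    obtain ⟨t, ht, hte⟩ := hT c
    obtain ⟨s, hs, hse⟩ := hS c⁻¹
    have h2 : (2 : F) = 0 := CharTwo.two_eq_zero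
    have hcc := mul_inv_cancel₀ hc
    have hx : ∀ m, h.rz (t * (j * s * j⁻¹) * t) m = h.rz t (h.rz (j * s * j⁻¹) (h.rz t m)) := fun m => by
      rw [Mix.r_mul, Mix.r_mul]
    have f1T : ∀ m, f₁ (h.rz t m) = f₁ m := fun m => by rw [hte, map_add, map_smul, hf₁0, smul_zero, add_zero]
    have fjT : ∀ m, fj (h.rz t m) = fj m + c * f₁ m := fun m => by
      rw [hte, map_add, map_smul, hfj1, smul_eq_mul, mul_one]
    have f1S : ∀ m, f₁ (h.rz (j * s * j⁻¹) m) = f₁ m + c⁻¹ * fj m := fun m => by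
      rw [hse, map_add, map_smul, hf₁j, smul_eq_mul, mul_one]
    have fjS : ∀ m, fj (h.rz (j * s * j⁻¹) m) = fj m := fun m => by rw [hse, map_add, map_smul, hfj0, smul_zero, add_zero]
    refine ⟨t * (j * s * j⁻¹) * t, ?_, ?_, ?_, fun m => ?_, fun m => ?_⟩
    · have h3 := h.W_norm_sup htr j.2 ht
      exact mul_mem (mul_mem h3 (h.Wj_norm_sup htr j.2 hs)) h3
    · rw [hx, hte (v 1), hf₁0, mul_zero, zero_smul, add_zero, hse, hfj1, mul_one, map_add, map_smul, hte, hte, hf₁0,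
        hf₁j, mul_zero, zero_smul, add_zero, mul_one, smul_add, smul_smul, inv_mul_cancel₀ hc, one_smul]
      have h4 : v 1 + v 1 = 0 := TRp.add_self_mod (F := F) (v 1)
      rw [add_comm (c⁻¹ • v j), ← add_assoc, h4, zero_add]
    · rw [hx, hte (v j), hf₁j, mul_one, map_add, map_smul, hse, hse, hfj0, hfj1, mul_zero, zero_smul, add_zero, mul_one,
        smul_add, smul_smul, hcc, one_smul]
      have h4 : v j + v j = 0 := TRp.add_self_mod (F := F) (v j)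
      rw [add_comm (c • v 1), ← add_assoc, h4, zero_add, map_smul, hte, hf₁0, mul_zero, zero_smul, add_zero]
    · rw [hx, f1T, f1S, f1T, fjT]
      linear_combination (f₁ m) * hcc + (f₁ m) * h2
    · rw [hx, fjT, fjS, f1S, f1T, fjT]
      linear_combination (fj m + c * f₁ m) * hcc + (fj m + c * f₁ m) * h2
  obtain ⟨x, hxU, hx1, hxj, hxf, hxfj⟩ := hw c hc
  obtain ⟨y, hyU, hy1, hyj, hyf, hyfj⟩ := hw 1 one_ne_zero
  have hxy : h.rz (x * y) h.v0 = c • h.v0 := by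
    rw [← hv1, Mix.r_mul, hy1, inv_one, one_smul, hxj]
  refine ⟨(x : G) * y, (x * y).2, ?_, hxy, fun m => ?_⟩
  · refine h.norm_of_scal (x * y).2 j.2 (mul_mem hxU hyU) hxy (f := f₁) (by rw [← hv1]; exact hf₁0) ?_
    have h3 : h.rz ⟨(j : G), j.2⟩ h.v0 = v j := (hv j).symm
    rw [h3, hf₁j]
    exact one_ne_zero
  · have h3 : f₁ (h.rz (x * y) m) = c⁻¹ * f₁ m := by
      rw [Mix.r_mul, hxf, hyfj, one_mul]
    rw [hf₁, LinearMap.smul_apply, LinearMap.smul_apply, smul_eq_mul, smul_eq_mul] at h3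
    refine mul_left_cancel₀ (inv_ne_zero hj) ?_
    show (f (v j))⁻¹ * f (h.rz (x * y) m) = _
    rw [h3]
    ring

end Co

end Cfsg.Agent.Omega.NO3S.OneQ

end

end

-- merged: Cfsg.Agent.Mrg.Omega.NO3S.OneQ.TRi.Dat
section

section


/-!
# NO-3S, `OneQ`, case (TR) `[W_Z, W_Y] ≤ V` (bb OMEGA #20607, #20975): the pure system over `Co`

* `Co.TR` : `[W_Z, W_Y] ≤ V`; `Co.rcz` : the representation of `C_G(Z)` on `MF`; `Co.vv c = rcz c v0`;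
* `Co.Th w` : the functional of `sw w sw⁻¹` (`ag_Th : ag w m = m + Th w m • v0`); `Th_mul`, `Th_eq_zero` (`↔ w ∈ E_Z`);
* `Co.Ph` : the group of all `Th w`; `Co.Phi c`; `mem_Phi` : `φ ∈ Phi c` iff some `c (sw w sw⁻¹) c⁻¹` acts as `1 + φ ⊗ vv c`;
* `Phi_self`, `Phi_norm`, `Phi_act`, `vv_span`.
-/

set_option autoImplicit false
set_option linter.unusedSectionVars false

namespace Cfsg.Agent.Omega.NO3S.OneQ

open Subgroup Cfsg.Agent.Omega.NO3S.PT Cfsg.Agent.Omega.NoFF.Basic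
open scoped Pointwise

universe u

variable {G : Type u} [Group G]

namespace Co

variable [Finite G] {F : Type*} [Field F] [CharP F 2] {S : Sylow 2 G} {B P V Z : Subgroup G} (h : Co F S B P V Z)

/-- case (TR) -/
def TR : Prop := ∀ w ∈ ws V Z, ∀ u ∈ ws V h.Yp, w * u * w⁻¹ * u⁻¹ ∈ V

/-- the representation of `C_G(Z)` -/
noncomputable abbrev rcz : Representation F (centralizer (Z : Set G)) h.MF := h.rp.comp (Subgroup.inclusion h.C_le_hat)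

theorem rcz_apply (c : centralizer (Z : Set G)) : h.rcz c = h.rp ⟨c, h.C_le_hat c.2⟩ := rfl

theorem C_norm {c : G} (hc : c ∈ centralizer (Z : Set G)) : c ∈ normalizer (Z : Set G) := centralizer_le_normalizer _ hc

theorem rcz_fm (c : centralizer (Z : Set G)) (w : ws V Z) :
    h.rcz c (h.fm w) = h.fm ⟨c * w * (c : G)⁻¹, h.W_conj (C_norm c.2) w.2⟩ := h.rp_fm' (h.C_le_hat c.2) w.2

theorem rcz_mul (c d : centralizer (Z : Set G)) (m : h.MF) : h.rcz (c * d) m = h.rcz c (h.rcz d m) := by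
  rw [map_mul]; rfl

theorem rcz_one (m : h.MF) : h.rcz 1 m = m := by
  rw [map_one]; rfl

theorem rcz_inv_rc (c : centralizer (Z : Set G)) (m : h.MF) : h.rcz c⁻¹ (h.rcz c m) = m := by
  rw [← h.rcz_mul, inv_mul_cancel, h.rcz_one]

theorem rcz_rc_inv (c : centralizer (Z : Set G)) (m : h.MF) : h.rcz c (h.rcz c⁻¹ m) = m := by
  rw [← h.rcz_mul, mul_inv_cancel, h.rcz_one]

/-- `K_Z` acts trivially -/
theorem rcz_K {k : centralizer (Z : Set G)} (hk : (k : G) ∈ kx V Z) (m : h.MF) : h.rcz k m = m := h.rp_K hk m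

/-- the vector of the line `c` -/
noncomputable def vv (c : centralizer (Z : Set G)) : h.MF := h.rcz c h.v0

theorem vv_one : h.vv 1 = h.v0 := h.rcz_one _

theorem rcz_vv (c d : centralizer (Z : Set G)) : h.rcz c (h.vv d) = h.vv (c * d) := (h.rcz_mul c d _).symm

theorem vv_ne (c : centralizer (Z : Set G)) : h.vv c ≠ 0 := by
  intro h1
  have h2 := h.rcz_inv_rc c h.v0
  rw [show h.rcz c h.v0 = 0 from h1, map_zero] at h2
  exact h.v0_ne h2.symm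

/-- the lift of `a • vv c` in the line `c` -/
def lf (c : centralizer (Z : Set G)) (a : F) : ws V Z := ⟨c * h.e 0 a * (c : G)⁻¹, h.W_conj (C_norm c.2) (h.W_V 0 a)⟩

theorem fm_lf (c : centralizer (Z : Set G)) (a : F) : h.fm (h.lf c a) = a • h.vv c := by
  have h1 := h.rcz_fm c ⟨h.e 0 a, h.W_V 0 a⟩
  rw [h.fm_e, map_smul] at h1
  exact h1.symm

theorem exists_dl : ∃ f : Module.Dual F h.MF, f h.v0 = 1 := by
  obtain ⟨f, hf⟩ : ∃ f : Module.Dual F h.MF, f h.v0 ≠ 0 := by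
    by_contra hcon
    push Not at hcon
    exact h.v0_ne ((Module.forall_dual_apply_eq_zero_iff F _).1 hcon)
  exact ⟨(f h.v0)⁻¹ • f, by rw [LinearMap.smul_apply, smul_eq_mul, inv_mul_cancel₀ hf]⟩

/-- a functional with `dl v0 = 1` -/
noncomputable def dl : Module.Dual F h.MF := h.exists_dl.choose

theorem dl_v0 : h.dl h.v0 = 1 := h.exists_dl.choose_spec

theorem smul_v0_inj {a b : F} (hab : a • h.v0 = b • h.v0) : a = b := by
  have := congrArg h.dl hab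
  rwa [map_smul, map_smul, h.dl_v0, smul_eq_mul, smul_eq_mul, mul_one, mul_one] at this

theorem smul_vv_inj {c : centralizer (Z : Set G)} {a b : F} (hab : a • h.vv c = b • h.vv c) : a = b := by
  apply h.smul_v0_inj
  have := congrArg (h.rcz c⁻¹) hab
  rwa [map_smul, map_smul, vv, h.rcz_inv_rc] at this

/-- the functional of `sw w sw⁻¹` -/
noncomputable def Th (w : ws V Z) : Module.Dual F h.MF := h.dl ∘ₗ (h.ag w - 1)

theorem Th_apply (w : ws V Z) (m : h.MF) : h.Th w m = h.dl (h.ag w m - m) := rfl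

variable {h}

/-- an element of `W_Y` acts as a `λ`-transvection -/
theorem TR.sub (hT : h.TR) {u : G} (hu : u ∈ ws V h.Yp) (m : h.MF) :
    ∃ a : F, h.rp ⟨u, h.W_hat h.pY hu⟩ m - m = a • h.v0 := by
  obtain ⟨w, rfl⟩ := h.fm_surj m
  obtain ⟨v, hv, hv', e⟩ := h.rp_W h.pY h.Yp_ne hu w
  have h1 : v ∈ V := by
    have h2 := inv_mem (hT w w.2 u hu)
    have e2 : ((w : G) * u * (w : G)⁻¹ * u⁻¹)⁻¹ = v := by rw [hv']; group
    rwa [e2] at h2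
  obtain ⟨x, y, hxy⟩ := (h.mem_V v).1 h1
  refine ⟨y, ?_⟩
  rw [e, ← h.fm_e x y]
  congr 1
  exact Subtype.ext hxy.symm

theorem TR.ag_Th (hT : h.TR) (w : ws V Z) (m : h.MF) : h.ag w m = m + h.Th w m • h.v0 := by
  obtain ⟨a, ha⟩ := hT.sub (h.sw_W w.2) m
  have h1 : h.ag w m - m = a • h.v0 := ha
  rw [h.Th_apply, h1, map_smul, h.dl_v0, smul_eq_mul, mul_one, ← h1, add_sub_cancel]

variable (h)

theorem ag_v0 (w : ws V Z) : h.ag w h.v0 = h.v0 := by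
  have h1 := h.rp_W_I h.pY (h.sw_W w.2) (h.one.pl.V_le_IV (h.e_memV 0 1))
  exact h1

theorem Th_v0 (w : ws V Z) : h.Th w h.v0 = 0 := by
  rw [h.Th_apply, h.ag_v0, sub_self, map_zero]

variable {h}

theorem TR.Th_eq (hT : h.TR) {w : ws V Z} {f : Module.Dual F h.MF} (hf : ∀ m, h.ag w m = m + f m • h.v0) : h.Th w = f := by
  refine LinearMap.ext fun m => h.smul_v0_inj ?_
  have h1 := hf m
  rw [hT.ag_Th] at h1
  exact add_left_cancel h1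

theorem TR.Th_mul (hT : h.TR) (w w' : ws V Z) : h.Th (w * w') = h.Th w + h.Th w' := by
  refine hT.Th_eq fun m => ?_
  rw [h.ag_mul, Module.End.mul_apply, hT.ag_Th w, hT.ag_Th w', map_add, map_smul, h.Th_v0, smul_zero, add_zero,
    LinearMap.add_apply, add_smul]
  abel

theorem TR.Th_of_kx (hT : h.TR) {w : ws V Z} (hw : (w : G) ∈ ee V Z Z) : h.Th w = 0 := by
  refine LinearMap.ext fun m => ?_
  rw [h.Th_apply, h.ag_one_of hw, Module.End.one_apply, sub_self, map_zero]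
  rfl

theorem TR.Th_eq_zero (hT : h.TR) {w : ws V Z} : h.Th w = 0 ↔ (w : G) ∈ ee V Z Z := by
  refine ⟨fun h1 => ?_, fun hw => hT.Th_of_kx hw⟩
  have h2 : h.sw * w * h.sw⁻¹ ∈ ee V Z h.Yp := by
    rw [h.one.ee_eq h.pY h.one.self h.Yp_ne.symm]
    refine ⟨h.sw_W w.2, mem_kx.2 ⟨(mem_centralizer_iff.1 (h.one.W_le_C h.pY (h.sw_W w.2)) · · |>.symm), fun v hv => ?_⟩⟩
    obtain ⟨u, hu, hu', e⟩ := h.rp_W h.pY h.Yp_ne (h.sw_W w.2) ⟨v, hv⟩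
    have h3 : h.rp ⟨h.sw * w * h.sw⁻¹, h.W_hat h.pY (h.sw_W w.2)⟩ (h.fm ⟨v, hv⟩) = h.fm ⟨v, hv⟩ := by
      have := hT.ag_Th w (h.fm ⟨v, hv⟩)
      rw [h1, LinearMap.zero_apply, zero_smul, add_zero] at this
      exact this
    rw [h3, sub_self] at e
    rw [← hu']
    exact h.rd_inf_I ⟨(h.fm_eq_zero _).1 e.symm, hu⟩
  exact h.sw_ee.1 h2

theorem TR.Th_Z (hT : h.TR) {w : ws V Z} (hw : (w : G) ∈ Z) : h.Th w = 0 :=
  hT.Th_of_kx (h.one.dd_le_ee h.one.self (h.one.X_le_dd h.one.self hw))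

theorem TR.Th_one (hT : h.TR) : h.Th 1 = 0 := hT.Th_Z (one_mem _)

theorem TR.Th_inv (hT : h.TR) (w : ws V Z) : h.Th w⁻¹ = h.Th w := by
  have _ := hT
  congr 1
  exact Subtype.ext (h.one.inv_eq_W h.one.self w.2)

/-- `Th` does not see `Z` -/
theorem TR.Th_congr (hT : h.TR) {w w' : ws V Z} (hw : (w : G) * (w' : G)⁻¹ ∈ Z) : h.Th w = h.Th w' := by
  have h1 := hT.Th_mul (w * w'⁻¹) w'
  rw [inv_mul_cancel_right, hT.Th_Z (w := w * w'⁻¹) hw, zero_add] at h1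
  exact h1

/-- `Th` does not see `E_Z` -/
theorem TR.Th_congr' (hT : h.TR) {w w' : ws V Z} (hw : (w : G) * (w' : G)⁻¹ ∈ ee V Z Z) : h.Th w = h.Th w' := by
  have h1 := hT.Th_mul (w * w'⁻¹) w'
  rw [inv_mul_cancel_right, hT.Th_of_kx (w := w * w'⁻¹) hw, zero_add] at h1
  exact h1

/-- the group of the functionals `Th w` -/
noncomputable def TR.Ph (hT : h.TR) : AddSubgroup (Module.Dual F h.MF) where
  carrier := {φ | ∃ w, h.Th w = φ}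
  zero_mem' := ⟨1, hT.Th_one⟩
  add_mem' := by
    rintro _ _ ⟨w, rfl⟩ ⟨w', rfl⟩
    exact ⟨w * w', hT.Th_mul w w'⟩
  neg_mem' := by
    rintro _ ⟨w, rfl⟩
    refine ⟨w⁻¹, ?_⟩
    rw [eq_neg_iff_add_eq_zero, ← hT.Th_mul, inv_mul_cancel, hT.Th_one]

theorem TR.mem_Ph (hT : h.TR) {φ : Module.Dual F h.MF} : φ ∈ hT.Ph ↔ ∃ w, h.Th w = φ := Iff.rfl

/-- `Φ_c` -/
noncomputable def TR.Phi (hT : h.TR) (c : centralizer (Z : Set G)) : AddSubgroup (Module.Dual F h.MF) :=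
  hT.Ph.comap ((h.rcz c).dualMap : Module.Dual F h.MF →+ Module.Dual F h.MF)

theorem TR.mem_Phi' (hT : h.TR) {c : centralizer (Z : Set G)} {φ : Module.Dual F h.MF} :
    φ ∈ hT.Phi c ↔ ∃ w, h.Th w = φ ∘ₗ h.rcz c := Iff.rfl

/-- `φ ∈ Φ_c` iff some `c (sw w sw⁻¹) c⁻¹` acts as `1 + φ ⊗ v_c` -/
theorem TR.mem_Phi (hT : h.TR) {c : centralizer (Z : Set G)} {φ : Module.Dual F h.MF} :
    φ ∈ hT.Phi c ↔ ∃ w, ∀ m, h.rcz c (h.ag w (h.rcz c⁻¹ m)) = m + φ m • h.vv c := by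
  rw [hT.mem_Phi']
  refine exists_congr fun w => ⟨fun hw m => ?_, fun hw => LinearMap.ext fun m => ?_⟩
  · rw [hT.ag_Th, hw, map_add, h.rcz_rc_inv, map_smul, LinearMap.comp_apply, h.rcz_rc_inv]
    rfl
  · have h1 := hw (h.rcz c m)
    rw [h.rcz_inv_rc, hT.ag_Th, map_add, map_smul] at h1
    exact h.smul_vv_inj (add_left_cancel h1)

theorem TR.Phi_one (hT : h.TR) : hT.Phi 1 = hT.Ph := by
  ext φ
  rw [hT.mem_Phi', hT.mem_Ph]
  have e : φ ∘ₗ h.rcz 1 = φ := LinearMap.ext fun m => by rw [LinearMap.comp_apply, h.rcz_one]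
  rw [e]

/-- (self) -/
theorem TR.Phi_self (hT : h.TR) {c : centralizer (Z : Set G)} {φ : Module.Dual F h.MF} (hφ : φ ∈ hT.Phi c) :
    φ (h.vv c) = 0 := by
  obtain ⟨w, hw⟩ := hT.mem_Phi'.1 hφ
  have h1 := LinearMap.congr_fun hw h.v0
  rw [h.Th_v0, LinearMap.comp_apply] at h1
  exact h1.symm

theorem TR.Phi_mul (hT : h.TR) {a c : centralizer (Z : Set G)} {φ : Module.Dual F h.MF} :
    φ ∈ hT.Phi (a * c) ↔ φ ∘ₗ h.rcz a ∈ hT.Phi c := by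
  rw [hT.mem_Phi', hT.mem_Phi']
  have e : φ ∘ₗ h.rcz (a * c) = (φ ∘ₗ h.rcz a) ∘ₗ h.rcz c := LinearMap.ext fun m => by
    rw [LinearMap.comp_apply, h.rcz_mul]; rfl
  rw [e]

/-- the elements acting as `1 + φ ⊗ v_c` -/
theorem TR.exists_act (hT : h.TR) {c : centralizer (Z : Set G)} {φ : Module.Dual F h.MF} (hφ : φ ∈ hT.Phi c) :
    ∃ (u : G) (hu : u ∈ ws V h.Yp) (a : centralizer (Z : Set G)), (a : G) = c * u * (c : G)⁻¹ ∧
      (∀ m, h.rcz a m = m + φ m • h.vv c) := by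
  obtain ⟨w, hw⟩ := hT.mem_Phi.1 hφ
  have hu := h.sw_W w.2
  have huC := h.one.W_le_C h.pY hu
  refine ⟨_, hu, c * ⟨_, huC⟩ * c⁻¹, rfl, fun m => ?_⟩
  rw [h.rcz_mul, h.rcz_mul]
  exact hw m

/-- (act) -/
theorem TR.Phi_act (hT : h.TR) {j : centralizer (Z : Set G)} {ψ : Module.Dual F h.MF} (hψ : ψ ∈ hT.Phi j)
    (i : centralizer (Z : Set G)) : ∃ i', h.vv i' = h.vv i + ψ (h.vv i) • h.vv j ∧
      ∀ φ, φ ∈ hT.Phi i' ↔ φ + φ (h.vv j) • ψ ∈ hT.Phi i := by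
  obtain ⟨u, hu, a, hau, ha⟩ := hT.exists_act hψ
  refine ⟨a * i, ?_, fun φ => ?_⟩
  · rw [← h.rcz_vv, ha]
  · rw [hT.Phi_mul]
    have e : φ ∘ₗ h.rcz a = φ + φ (h.vv j) • ψ := LinearMap.ext fun m => by
      rw [LinearMap.comp_apply, ha, map_add, map_smul, LinearMap.add_apply, LinearMap.smul_apply, smul_eq_mul,
        smul_eq_mul, mul_comm]
    rw [e]

variable (h)

/-- (span) -/
theorem vv_span (m : h.MF) : m ∈ Submodule.span F (Set.range h.vv) := by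
  let D : Subgroup G :=
    { carrier := {w | ∃ hw : w ∈ ws V Z, h.fm ⟨w, hw⟩ ∈ Submodule.span F (Set.range h.vv)}
      one_mem' := ⟨one_mem _, by
        have : h.fm ⟨1, one_mem _⟩ = 0 := h.fm_one
        rw [this]; exact zero_mem _⟩
      mul_mem' := by
        rintro a b ⟨ha, ha'⟩ ⟨hb, hb'⟩
        refine ⟨mul_mem ha hb, ?_⟩
        have : h.fm ⟨a * b, mul_mem ha hb⟩ = h.fm ⟨a, ha⟩ + h.fm ⟨b, hb⟩ := h.fm_mul ⟨a, ha⟩ ⟨b, hb⟩
        rw [this]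
        exact add_mem ha' hb'
      inv_mem' := by
        rintro a ⟨ha, ha'⟩
        refine ⟨inv_mem ha, ?_⟩
        have : h.fm ⟨a⁻¹, inv_mem ha⟩ = h.fm ⟨a, ha⟩ := h.fm_inv ⟨a, ha⟩
        rw [this]
        exact ha' }
  have hV : V ≤ D := by
    intro v hv
    obtain ⟨x, y, rfl⟩ := (h.mem_V v).1 hv
    refine ⟨h.W_V x y, ?_⟩
    rw [h.fm_e]
    exact Submodule.smul_mem _ _ (Submodule.subset_span ⟨1, h.vv_one⟩)
  have hC : centralizer (Z : Set G) ≤ normalizer (D : Set G) := by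
    have key : ∀ g ∈ centralizer (Z : Set G), ∀ x ∈ D, g * x * g⁻¹ ∈ D := by
      rintro g hg x ⟨hx, hx'⟩
      refine ⟨h.W_conj (C_norm hg) hx, ?_⟩
      have e := h.rcz_fm ⟨g, hg⟩ ⟨x, hx⟩
      have e2 : h.fm ⟨g * x * g⁻¹, h.W_conj (C_norm hg) hx⟩ = h.rcz ⟨g, hg⟩ (h.fm ⟨x, hx⟩) := e.symm
      rw [e2]
      have h1 : Submodule.span F (Set.range h.vv) ≤ (Submodule.span F (Set.range h.vv)).comap (h.rcz ⟨g, hg⟩) := by
        rw [Submodule.span_le]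
        rintro _ ⟨c, rfl⟩
        show h.rcz ⟨g, hg⟩ (h.vv c) ∈ Submodule.span F (Set.range h.vv)
        rw [h.rcz_vv]
        exact Submodule.subset_span ⟨_, rfl⟩
      exact h1 hx'
    intro g hg
    rw [mem_normalizer_iff]
    intro x
    refine ⟨key g hg x, fun hx => ?_⟩
    have h1 := key g⁻¹ (inv_mem hg) _ hx
    have e : g⁻¹ * (g * x * g⁻¹) * g⁻¹⁻¹ = x := by group
    rwa [e] at h1
  obtain ⟨w, rfl⟩ := h.fm_surj m
  obtain ⟨_, hw⟩ := h.W_le_of_V hV hC w.2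
  exact hw

theorem vv_sep {φ : Module.Dual F h.MF} (hφ : ∀ i, φ (h.vv i) = 0) : φ = 0 := by
  refine LinearMap.ext fun m => ?_
  refine Submodule.span_induction (p := fun m _ => φ m = (0 : Module.Dual F h.MF) m) ?_ (by simp) ?_ ?_ (h.vv_span m)
  · rintro _ ⟨i, rfl⟩
    exact hφ i
  · intro x y _ _ hx hy
    rw [map_add, hx, hy]; simp
  · intro a x _ hx
    rw [map_smul, hx]; simp

end Co

end Cfsg.Agent.Omega.NO3S.OneQ

end

section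


/-!
# NO-3S, `OneQ`, case (TR) (bb OMEGA #20607, #20975): conjugation, (inv), the torus

* `Co.fix_line` : `d ∈ C_G(Z)` trivial on `V / Z` lies in `K_Z C_G(V)`;
* `Co.wj hg w = g w g⁻¹` ; `TR.comm_line` : `[a, w] ∈ lf j (ψ (fm w)) Z` for `a = j u j⁻¹` acting as `1 + ψ ⊗ v_j`;
* `TR.Th_fix` : `Th (d w d⁻¹) ∘ d = Th w` for `d` as in `fix_line`; `TR.inv`;
* `TR.Th_tor` : `Th (τ w τ⁻¹) = s • Th w ∘ T`; `TR.tor_b`, `TR.tor_γ`; `TR.hor`.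
-/

set_option autoImplicit false
set_option linter.unusedSectionVars false

namespace Cfsg.Agent.Omega.NO3S.OneQ

open Subgroup Cfsg.Agent.Omega.NO3S.PT Cfsg.Agent.Omega.NoFF.Basic
open scoped Pointwise

universe u

variable {G : Type u} [Group G]

namespace Co

variable [Finite G] {F : Type*} [Field F] [CharP F 2] {S : Sylow 2 G} {B P V Z : Subgroup G} (h : Co F S B P V Z)

include h in
/-- an element of `C_G(Z)` trivial on `V / Z` lies in `K_Z C_G(V)` -/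
theorem fix_line {d : G} (hd : d ∈ centralizer (Z : Set G)) (h1 : ∀ y, d * h.e 0 y * d⁻¹ * (h.e 0 y)⁻¹ ∈ Z) :
    ∃ k ∈ kx V Z, k⁻¹ * d ∈ centralizer (V : Set G) := by
  obtain ⟨t, ht⟩ := (h.mem_Z _).1 (h1 1)
  obtain ⟨k, hk, -, hkt⟩ := h.exists_K t
  refine ⟨k, hk, ?_⟩
  set f := k⁻¹ * d with hf
  have hkC : k ∈ centralizer (Z : Set G) := kx_le_cent hk
  have hfC : f ∈ centralizer (Z : Set G) := mul_mem (inv_mem hkC) hd
  have hf1 : f * h.e 0 1 = h.e 0 1 * f := by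
    have e1 : d * h.e 0 1 * d⁻¹ = k * h.e 0 1 * k⁻¹ := by
      rw [hkt, zero_add, mul_one]
      have e2 : d * h.e 0 1 * d⁻¹ = h.e t 0 * h.e 0 1 := by rw [ht]; group
      rw [e2, ← h.e_add, add_zero, zero_add]
    calc f * h.e 0 1 = k⁻¹ * (d * h.e 0 1 * d⁻¹) * d := by rw [hf]; group
      _ = k⁻¹ * (k * h.e 0 1 * k⁻¹) * d := by rw [e1]
      _ = h.e 0 1 * f := by rw [hf]; group
  -- `f` acts trivially on `V / Z`
  have hfy : ∀ y, ∃ x, f * h.e 0 y * f⁻¹ = h.e x y := by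
    intro y
    obtain ⟨s, hs⟩ := (h.mem_Z _).1 (h1 y)
    have e2 : d * h.e 0 y * d⁻¹ = h.e s y := by
      have e3 : d * h.e 0 y * d⁻¹ = h.e s 0 * h.e 0 y := by rw [hs]; group
      rw [e3, ← h.e_add, add_zero, zero_add]
    refine ⟨s + t * y, ?_⟩
    have hki : ∀ x y, k⁻¹ * h.e x y * k = h.e (x + t * y) y := by
      intro x y
      have e4 : h.e x y = h.e (x + t * y + t * y) y := by rw [add_assoc, CharTwo.add_self_eq_zero, add_zero]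
      rw [e4, ← hkt]; group
    have e5 : f * h.e 0 y * f⁻¹ = k⁻¹ * (d * h.e 0 y * d⁻¹) * k := by rw [hf]; group
    rw [e5, e2, hki]
  have hfz : ∀ x, f * h.e x 0 * f⁻¹ = h.e x 0 := fun x => by
    rw [(mem_centralizer_iff.1 hfC _ (h.e_memZ x)).symm, mul_inv_cancel_right]
  have hfxy : ∀ x y, ∃ x', f * h.e x y * f⁻¹ = h.e x' y := by
    intro x y
    obtain ⟨x', hx'⟩ := hfy y
    refine ⟨x + x', ?_⟩
    have e1 : h.e x y = h.e x 0 * h.e 0 y := by rw [← h.e_add, add_zero, zero_add]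
    have e2 : f * h.e x y * f⁻¹ = f * h.e x 0 * f⁻¹ * (f * h.e 0 y * f⁻¹) := by rw [e1]; group
    rw [e2, hfz, hx', ← h.e_add, zero_add]
  have hfV : f ∈ normalizer (V : Set G) := by
    rw [← cj_eq_iff]
    refine eq_of_le_of_card_ge ?_ (by rw [card_cj])
    intro v hv
    rw [mem_cj] at hv
    obtain ⟨x, y, hxy⟩ := (h.mem_V _).1 hv
    obtain ⟨x', hx'⟩ := hfxy x y
    rw [hxy] at hx'
    have e : f * (f⁻¹ * v * f) * f⁻¹ = v := by group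
    rw [e] at hx'
    rw [hx']
    exact h.e_memV _ _
  have hff : f * f ∈ centralizer (V : Set G) := by
    refine h.mem_cent fun x y => ?_
    obtain ⟨x', hx'⟩ := hfy y
    have e1 : h.e x y = h.e x 0 * h.e 0 y := by rw [← h.e_add, add_zero, zero_add]
    have e2 : f * f * h.e x y * (f * f)⁻¹ = f * (f * h.e x 0 * f⁻¹) * f⁻¹ * (f * (f * h.e 0 y * f⁻¹) * f⁻¹) := by
      rw [e1]; group
    have e3 : h.e x' y = h.e x' 0 * h.e 0 y := by rw [← h.e_add, add_zero, zero_add]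
    have e4 : f * h.e x' y * f⁻¹ = f * h.e x' 0 * f⁻¹ * (f * h.e 0 y * f⁻¹) := by rw [e3]; group
    rw [e2, hfz, hfz, hx', e4, hfz, hx', ← h.e_add, ← h.e_add]
    congr 1
    · rw [← add_assoc, add_comm x x', add_assoc, add_comm x, ← add_assoc, CharTwo.add_self_eq_zero, zero_add]
    · rw [zero_add, zero_add]
  obtain ⟨m, hm, hfm⟩ := exists_odd_pow f
  have hmV : f ^ m ∈ centralizer (V : Set G) := by
    refine h.one.pl.two_line hfm (pow_mem hfC m) (pow_mem hfV m) (h.e_memV 0 1) ?_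
      (Commute.pow_left (show Commute f (h.e 0 1) from hf1) m)
    rw [h.e_memZ_iff]
    exact one_ne_zero
  obtain ⟨j, rfl⟩ := hm
  have e : f = f ^ (2 * j + 1) * ((f * f) ^ j)⁻¹ := by
    rw [pow_succ', pow_mul, pow_two, mul_inv_cancel_right]
  rw [e]
  exact mul_mem hmV (inv_mem (pow_mem hff j))

/-- `g w g⁻¹` -/
def wj {g : G} (hg : g ∈ normalizer (Z : Set G)) (w : ws V Z) : ws V Z := ⟨g * w * g⁻¹, h.W_conj hg w.2⟩

theorem wj_coe {g : G} (hg : g ∈ normalizer (Z : Set G)) (w : ws V Z) : (h.wj hg w : G) = g * w * g⁻¹ := rfl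

theorem fm_wj {g : G} (hg : g ∈ h.hat) (w : ws V Z) : h.fm (h.wj (h.hat_norm hg) w) = h.rp ⟨g, hg⟩ (h.fm w) :=
  (h.rp_fm ⟨g, hg⟩ w).symm

theorem fm_wj' {g : G} (hg : g ∈ centralizer (Z : Set G)) (w : ws V Z) :
    h.fm (h.wj (C_norm hg) w) = h.rcz ⟨g, hg⟩ (h.fm w) := (h.rcz_fm ⟨g, hg⟩ w).symm

variable {h}

/-- `[a, w] ∈ lf j (ψ (fm w)) Z` -/
theorem TR.comm_line (hT : h.TR) {j a : centralizer (Z : Set G)} {u : G} (hu : u ∈ ws V h.Yp)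
    (hau : (a : G) = j * u * (j : G)⁻¹) {ψ : Module.Dual F h.MF} (ha : ∀ m, h.rcz a m = m + ψ m • h.vv j) (w : ws V Z) :
    (a : G) * w * (a : G)⁻¹ * (h.lf j (ψ (h.fm w)) * w : G)⁻¹ ∈ Z := by
  have hjN := C_norm j.2
  have hw' : (j : G)⁻¹ * w * j ∈ ws V Z := by
    have := h.W_conj (inv_mem hjN) w.2
    rwa [inv_inv] at this
  -- `[a, w] = j v j⁻¹`, `v ∈ V`
  have h1 : u * ((j : G)⁻¹ * w * j) * u⁻¹ * ((j : G)⁻¹ * w * j)⁻¹ ∈ V := by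
    have h2 := inv_mem (hT _ hw' u hu)
    have e2 : ((j : G)⁻¹ * w * j * u * ((j : G)⁻¹ * w * j)⁻¹ * u⁻¹)⁻¹ =
      u * ((j : G)⁻¹ * w * j) * u⁻¹ * ((j : G)⁻¹ * w * j)⁻¹ := by group
    rwa [e2] at h2
  obtain ⟨x, y, hxy⟩ := (h.mem_V _).1 h1
  have e3 : (a : G) * w * (a : G)⁻¹ * (w : G)⁻¹ = j * h.e x y * (j : G)⁻¹ := by
    rw [hxy, hau]; group
  have e4 : (h.e x y : G) = h.e x 0 * h.e 0 y := by rw [← h.e_add, add_zero, zero_add]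
  have e5 : (j : G) * h.e x 0 * (j : G)⁻¹ = h.e x 0 := by
    rw [(mem_centralizer_iff.1 j.2 _ (h.e_memZ x)).symm, mul_inv_cancel_right]
  have e6 : (a : G) * w * (a : G)⁻¹ * (w : G)⁻¹ = h.e x 0 * (h.lf j y : G) := by
    rw [e3, e4]
    have : (j : G) * (h.e x 0 * h.e 0 y) * (j : G)⁻¹ = (j * h.e x 0 * (j : G)⁻¹) * (j * h.e 0 y * (j : G)⁻¹) := by group
    rw [this, e5]
    rfl
  -- the value of `y`
  have hxW : h.e x 0 ∈ ws V Z := h.W_V x 0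
  have h7 : h.fm (h.wj (C_norm a.2) w) = h.fm (⟨h.e x 0, hxW⟩ * h.lf j y * w) := by
    congr 1
    apply Subtype.ext
    show (a : G) * w * (a : G)⁻¹ = h.e x 0 * (h.lf j y : G) * w
    rw [← e6]; group
  rw [h.fm_wj' a.2, h.fm_mul, h.fm_mul, h.fm_lf, ha, (h.fm_eq_zero ⟨h.e x 0, hxW⟩).2 (h.Z_le_rd (h.e_memZ x)), zero_add,
    add_comm (y • h.vv j)] at h7
  have h8 := h.smul_vv_inj (add_left_cancel h7)
  rw [h8]
  have e9 : (a : G) * w * (a : G)⁻¹ * (h.lf j y * w : G)⁻¹ = h.e x 0 := by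
    have : (a : G) * w * (a : G)⁻¹ * (h.lf j y * w : G)⁻¹ = (a : G) * w * (a : G)⁻¹ * (w : G)⁻¹ * (h.lf j y : G)⁻¹ := by
      group
    rw [this, e6]; group
  rw [e9]
  exact h.e_memZ x

/-- `Th` under conjugation -/
theorem TR.Th_conj (hT : h.TR) {g g' y : G} (hg : g ∈ normalizer (Z : Set G)) (hg' : g' ∈ h.hat) (hy : y ∈ yl V Z)
    (he : h.sw * g * h.sw⁻¹ = g' * y) (w : ws V Z) (m : h.MF) :
    h.ag (h.wj hg w) (h.rp ⟨g', hg'⟩ m) = h.rp ⟨g', hg'⟩ (h.ag w m) := by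
  have _ := hT
  have hu := h.sw_W w.2
  set u := h.sw * w * h.sw⁻¹ with hud
  have h1 := h.yl_A hy hu
  have hyh := h.C_le_hat (h.yl_C hy)
  have h2 : h.rp (⟨y, hyh⟩ * ⟨u, h.W_hat h.pY hu⟩ * ⟨y⁻¹, inv_mem hyh⟩) = h.rp ⟨u, h.W_hat h.pY hu⟩ := by
    rw [map_mul, map_mul, h1, mul_assoc, h.hat_mul_inv hyh, mul_one]
  have hcu : h.sw * (h.wj hg w : G) * h.sw⁻¹ ∈ ws V h.Yp := h.sw_W (h.wj hg w).2
  have h3 : (⟨h.sw * (h.wj hg w : G) * h.sw⁻¹, h.W_hat h.pY hcu⟩ * ⟨g', hg'⟩ : h.hat) =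
      ⟨g', hg'⟩ * (⟨y, hyh⟩ * ⟨u, h.W_hat h.pY hu⟩ * ⟨y⁻¹, inv_mem hyh⟩) := by
    apply Subtype.ext
    show h.sw * (h.wj hg w : G) * h.sw⁻¹ * g' = g' * (y * u * y⁻¹)
    have e1 : h.sw * (h.wj hg w : G) * h.sw⁻¹ = h.sw * g * h.sw⁻¹ * u * (h.sw * g * h.sw⁻¹)⁻¹ := by
      rw [h.wj_coe, hud]; group
    rw [e1, he]; group
  have h4 := congrArg (fun x => h.rp x m) h3
  simp only [map_mul, Module.End.mul_apply] at h4
  have h5 := congrArg (fun f => f m) h2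
  simp only [map_mul, Module.End.mul_apply] at h5
  rw [h5] at h4
  exact h4

/-- `Th` under conjugation, when `g'` fixes the line -/
theorem TR.Th_conj' (hT : h.TR) {g g' y : G} (hg : g ∈ normalizer (Z : Set G)) (hg' : g' ∈ h.hat) (hy : y ∈ yl V Z)
    (he : h.sw * g * h.sw⁻¹ = g' * y) {b : F} (hb : h.rp ⟨g', hg'⟩ h.v0 = b • h.v0) (w : ws V Z) (m : h.MF) :
    h.Th (h.wj hg w) (h.rp ⟨g', hg'⟩ m) = h.Th w m * b := by
  have h1 := hT.Th_conj hg hg' hy he w m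
  rw [hT.ag_Th, hT.ag_Th, map_add, map_smul, hb, smul_smul] at h1
  exact h.smul_v0_inj (add_left_cancel h1)

theorem TR.Th_K (hT : h.TR) {k : G} (hk : k ∈ kx V Z) (w : ws V Z) : h.Th (h.wj (C_norm (kx_le_cent hk)) w) = h.Th w :=
  hT.Th_congr (h.kw_mem w.2 hk)

theorem TR.Th_yl (hT : h.TR) {y : G} (hy : y ∈ yl V Z) (w : ws V Z) : h.Th (h.wj (C_norm (h.yl_C hy)) w) = h.Th w :=
  hT.Th_congr' (h.one.yl_ee h.one.self hy w.2)

theorem TR.Th_cent (hT : h.TR) {c : G} (hc : c ∈ centralizer (V : Set G)) (w : ws V Z) (m : h.MF) :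
    h.Th (h.wj (C_norm (centralizer_le h.one.pl.ZV hc)) w) (h.rcz ⟨c, centralizer_le h.one.pl.ZV hc⟩ m) = h.Th w m := by
  have hcC := centralizer_le h.one.pl.ZV hc
  have hy : c⁻¹ * h.sw * c * h.sw⁻¹ ∈ yl V Z := by
    have h1 := inv_mem (h.one.comm_yl h.sw_XV (inv_mem hc))
    have e : (h.sw * c⁻¹ * h.sw⁻¹ * c⁻¹⁻¹)⁻¹ = c⁻¹ * h.sw * c * h.sw⁻¹ := by group
    rwa [e] at h1
  have h2 := hT.Th_conj' (C_norm hcC) (h.C_le_hat hcC) hy (by group) (b := 1)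
    (by rw [h.rp_cV hc, one_smul]) w m
  rw [mul_one] at h2
  exact h2

/-- `Th (d w d⁻¹) ∘ d = Th w` for `d` trivial on `V / Z` -/
theorem TR.Th_fix (hT : h.TR) {d : centralizer (Z : Set G)} (h1 : ∀ y, (d : G) * h.e 0 y * (d : G)⁻¹ * (h.e 0 y)⁻¹ ∈ Z)
    (w : ws V Z) (m : h.MF) : h.Th (h.wj (C_norm d.2) w) (h.rcz d m) = h.Th w m := by
  obtain ⟨k, hk, hc⟩ := h.fix_line d.2 h1
  have hkC := kx_le_cent hk
  set c := (k : G)⁻¹ * d with hcd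
  have hcC := centralizer_le h.one.pl.ZV hc
  have e1 : h.wj (C_norm d.2) w = h.wj (C_norm hkC) (h.wj (C_norm hcC) w) := by
    apply Subtype.ext
    rw [h.wj_coe, h.wj_coe, h.wj_coe, hcd]; group
  have e2 : h.rcz d m = h.rcz ⟨c, hcC⟩ m := by
    have e3 : d = ⟨k, hkC⟩ * ⟨c, hcC⟩ := Subtype.ext (by show (d : G) = k * c; rw [hcd]; group)
    rw [e3, h.rcz_mul, h.rcz_K (k := ⟨k, hkC⟩) hk]
  rw [e1, hT.Th_K hk, e2]
  exact hT.Th_cent hc w m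

/-- the elements `i⁻¹ a i` are trivial on `V / Z` -/
theorem TR.fix_of (hT : h.TR) {i j a : centralizer (Z : Set G)} {u : G} (hu : u ∈ ws V h.Yp)
    (hau : (a : G) = j * u * (j : G)⁻¹) {ψ : Module.Dual F h.MF} (ha : ∀ m, h.rcz a m = m + ψ m • h.vv j)
    (h0 : ψ (h.vv i) = 0) (y : F) :
    ((i⁻¹ * a * i : centralizer (Z : Set G)) : G) * h.e 0 y * ((i⁻¹ * a * i : centralizer (Z : Set G)) : G)⁻¹ *
      (h.e 0 y)⁻¹ ∈ Z := by
  have h1 := hT.comm_line hu hau ha (h.lf i y)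
  rw [h.fm_lf, map_smul, h0, smul_zero] at h1
  have e0 : (h.lf j 0 : G) = 1 := by
    show (j : G) * h.e 0 0 * (j : G)⁻¹ = 1
    rw [h.e_zero]; group
  rw [e0, one_mul] at h1
  have h2 := (mem_normalizer_iff.1 (C_norm (inv_mem i.2)) _).1 h1
  have e : (i : G)⁻¹ * ((a : G) * (h.lf i y : G) * (a : G)⁻¹ * (h.lf i y : G)⁻¹) * ((i : G)⁻¹)⁻¹ =
      ((i⁻¹ * a * i : centralizer (Z : Set G)) : G) * h.e 0 y * ((i⁻¹ * a * i : centralizer (Z : Set G)) : G)⁻¹ *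
      (h.e 0 y)⁻¹ := by
    show (i : G)⁻¹ * ((a : G) * (i * h.e 0 y * (i : G)⁻¹) * (a : G)⁻¹ * (i * h.e 0 y * (i : G)⁻¹)⁻¹) * ((i : G)⁻¹)⁻¹ =
      ((i : G)⁻¹ * a * i) * h.e 0 y * ((i : G)⁻¹ * a * i)⁻¹ * (h.e 0 y)⁻¹
    group
  rwa [e] at h2

theorem TR.fix_of' (hT : h.TR) {j a : centralizer (Z : Set G)} {u : G} (hu : u ∈ ws V h.Yp)
    (hau : (a : G) = j * u * (j : G)⁻¹) {ψ : Module.Dual F h.MF} (ha : ∀ m, h.rcz a m = m + ψ m • h.vv j)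
    (h0 : ψ h.v0 = 0) (y : F) : (a : G) * h.e 0 y * (a : G)⁻¹ * (h.e 0 y)⁻¹ ∈ Z := by
  have h1 := hT.fix_of (i := 1) hu hau ha (by rw [h.vv_one]; exact h0) y
  have e : (1⁻¹ * a * 1 : centralizer (Z : Set G)) = a := by group
  rwa [e] at h1

/-- the lift of `a m` -/
theorem TR.Th_act (hT : h.TR) {j a : centralizer (Z : Set G)} {u : G} (hu : u ∈ ws V h.Yp)
    (hau : (a : G) = j * u * (j : G)⁻¹) {ψ : Module.Dual F h.MF} (ha : ∀ m, h.rcz a m = m + ψ m • h.vv j) (w : ws V Z) :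
    h.Th (h.wj (C_norm a.2) w) = h.Th (h.lf j (ψ (h.fm w))) + h.Th w := by
  rw [← hT.Th_mul]
  exact hT.Th_congr (hT.comm_line hu hau ha w)

/-- **(inv)** -/
theorem TR.inv (hT : h.TR) {j : centralizer (Z : Set G)} {ψ : Module.Dual F h.MF} (hψ : ψ ∈ hT.Phi j)
    (h0 : ψ h.v0 = 0) (w : ws V Z) : h.Th (h.lf j (ψ (h.fm w))) = h.Th w (h.vv j) • ψ := by
  obtain ⟨u, hu, a, hau, ha⟩ := hT.exists_act hψ
  have haa : a * a = 1 := by
    apply Subtype.ext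
    show (a : G) * a = 1
    have e : (a : G) * a = j * (u * u) * (j : G)⁻¹ := by rw [hau]; group
    rw [e, h.one.sq_W h.pY hu]; group
  refine LinearMap.ext fun m => ?_
  have h1 := hT.Th_fix (hT.fix_of' hu hau ha h0) w (h.rcz a m)
  rw [← h.rcz_mul, haa, h.rcz_one, hT.Th_act hu hau ha w, ha m, map_add, map_smul, LinearMap.add_apply, smul_eq_mul] at h1
  rw [LinearMap.smul_apply, smul_eq_mul]
  have h2 : h.Th (h.lf j (ψ (h.fm w))) m = ψ m * h.Th w (h.vv j) := by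
    rw [add_comm (h.Th w m)] at h1
    exact add_right_cancel h1
  rw [h2, mul_comm]

/-! ### the torus -/

theorem TR.Th_tor (hT : h.TR) {τ : G} {s : F} (hτ : h.Tor τ s) (hs : s ≠ 0) (w : ws V Z) (m : h.MF) :
    h.Th (h.wj (hτ.norm_Z hs) w) m = s * h.Th w (h.rp ⟨τ, hτ.hat hs⟩ m) := by
  have hti := hτ.inv hs
  have hs' : s⁻¹ ≠ 0 := inv_ne_zero hs
  have hy : τ * (h.sw * τ * h.sw⁻¹) ∈ yl V Z := by
    rw [← h.XV_cent]
    refine ⟨(XV V Z).mul_mem hτ.mem ((XV V Z).mul_mem ((XV V Z).mul_mem h.sw_XV hτ.mem) ((XV V Z).inv_mem h.sw_XV)),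
      h.mem_cent fun x y => ?_⟩
    have e : τ * (h.sw * τ * h.sw⁻¹) * h.e x y * (τ * (h.sw * τ * h.sw⁻¹))⁻¹ =
        τ * (h.sw * (τ * (h.sw⁻¹ * h.e x y * h.sw) * τ⁻¹) * h.sw⁻¹) * τ⁻¹ := by group
    rw [e, h.sw_act', hτ.act, h.sw_act, hτ.act, mul_inv_cancel_left₀ hs, inv_mul_cancel_left₀ hs]
  have hb : h.rp ⟨τ⁻¹, hti.hat hs'⟩ h.v0 = s • h.v0 := by
    rw [h.rp_lam hti hs', inv_inv]
  have h1 := hT.Th_conj' (hτ.norm_Z hs) (hti.hat hs') hy (by group) hb w (h.rp ⟨τ, hτ.hat hs⟩ m)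
  have h2 : h.rp ⟨τ⁻¹, hti.hat hs'⟩ (h.rp ⟨τ, hτ.hat hs⟩ m) = m := by
    have := congrArg (fun f => f m) (h.hat_inv_mul (hτ.hat hs))
    exact this
  rw [h2] at h1
  rw [h1, mul_comm]

theorem TR.Th_tor' (hT : h.TR) {τ : G} {s : F} (hτ : h.Tor τ s) (hs : s ≠ 0) (w : ws V Z) :
    h.Th (h.wj (hτ.norm_Z hs) w) = s • (h.Th w ∘ₗ h.rp ⟨τ, hτ.hat hs⟩) :=
  LinearMap.ext fun m => hT.Th_tor hτ hs w m

/-- **(h1)** -/
theorem TR.tor (hT : h.TR) {τ : G} {s : F} (hτ : h.Tor τ s) (hs : s ≠ 0) {φ : Module.Dual F h.MF} (hφ : φ ∈ hT.Ph) :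
    s • (φ ∘ₗ h.rp ⟨τ, hτ.hat hs⟩) ∈ hT.Ph := by
  obtain ⟨w, rfl⟩ := hφ
  exact ⟨_, hT.Th_tor' hτ hs w⟩

/-- `[τ, a]` acts as an element of `Y_l` -/
theorem TR.tor_act (_hT : h.TR) {τ : G} {s : F} (hτ : h.Tor τ s) (hs : s ≠ 0) {k c : G} (hk : k ∈ kx V Z)
    (hc : c ∈ centralizer (V : Set G)) : ∃ k' ∈ kx V Z, ∃ y ∈ yl V Z, τ * (k * c) = k' * (y * (c * τ)) := by
  refine ⟨τ * k * τ⁻¹, ?_, τ * c * τ⁻¹ * c⁻¹, h.one.comm_yl hτ.mem hc, by group⟩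
  have := h.K_conj (inv_mem (hτ.norm_Z hs)) hk
  rwa [inv_inv] at this

/-- **(h2)** -/
theorem TR.tor_b (hT : h.TR) {τ : G} {s : F} (hτ : h.Tor τ s) (hs : s ≠ 0) {j : centralizer (Z : Set G)}
    {ψ φ : Module.Dual F h.MF} (hψ : ψ ∈ hT.Phi j) (h0 : ψ h.v0 = 0) (hφ : φ ∈ hT.Ph) (m : h.MF) :
    ψ m * φ (h.rp ⟨τ, hτ.hat hs⟩ (h.vv j)) = ψ (h.rp ⟨τ, hτ.hat hs⟩ m) * φ (h.vv j) := by
  obtain ⟨u, hu, a, hau, ha⟩ := hT.exists_act hψ
  obtain ⟨w, rfl⟩ := hφ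
  obtain ⟨k, hk, hc⟩ := h.fix_line a.2 (hT.fix_of' hu hau ha h0)
  have hkC := kx_le_cent hk
  set c := (k : G)⁻¹ * a with hcd
  have hcC := centralizer_le h.one.pl.ZV hc
  obtain ⟨k', hk', y, hy, he⟩ := hT.tor_act hτ hs hk hc
  have hyC := h.yl_C hy
  have hk'C := kx_le_cent hk'
  -- `T A = Y A T`
  have hA : ∀ m, h.rcz a m = h.rcz ⟨c, hcC⟩ m := by
    intro m
    have e3 : a = ⟨k, hkC⟩ * ⟨c, hcC⟩ := Subtype.ext (by show (a : G) = k * c; rw [hcd]; group)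
    rw [e3, h.rcz_mul, h.rcz_K (k := ⟨k, hkC⟩) hk]
  have hTA : h.rp ⟨τ, hτ.hat hs⟩ (h.rcz a m) = h.rcz ⟨y, hyC⟩ (h.rcz a (h.rp ⟨τ, hτ.hat hs⟩ m)) := by
    have e1 : (⟨τ, hτ.hat hs⟩ * ⟨a, h.C_le_hat a.2⟩ : h.hat) =
        ⟨k', h.C_le_hat hk'C⟩ * (⟨y, h.C_le_hat hyC⟩ * (⟨c, h.C_le_hat hcC⟩ * ⟨τ, hτ.hat hs⟩)) := by
      apply Subtype.ext
      show τ * (a : G) = k' * (y * (c * τ))
      rw [← he, hcd]; group
    have e2 := congrArg (fun x => h.rp x m) e1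
    simp only [map_mul, Module.End.mul_apply] at e2
    have e3 : ∀ m, h.rp ⟨k', h.C_le_hat hk'C⟩ m = m := fun m => h.rp_K hk' m
    rw [e3] at e2
    rw [hA (h.rp ⟨τ, hτ.hat hs⟩ m)]
    exact e2
  -- `φ ∘ Y = φ`
  have hY : ∀ m, h.Th w (h.rcz ⟨y, hyC⟩ m) = h.Th w m := by
    intro m
    have h1 := congrArg (fun f => f m) (h.yl_A hy (h.sw_W w.2))
    have h2 : h.rcz ⟨y, hyC⟩ (h.ag w m) = h.ag w (h.rcz ⟨y, hyC⟩ m) := h1
    rw [hT.ag_Th, hT.ag_Th, map_add, map_smul] at h2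
    have h3 : h.rcz ⟨y, hyC⟩ h.v0 = h.v0 := h.rp_cV (yl_le_cent V Z hy)
    rw [h3] at h2
    exact (h.smul_v0_inj (add_left_cancel h2)).symm
  have h4 := congrArg (h.Th w) hTA
  rw [hY, ha, ha, map_add, map_add, map_smul, map_add, map_smul, map_smul, smul_eq_mul, smul_eq_mul] at h4
  exact add_left_cancel h4

/-- **(h2)**, lifts -/
theorem TR.tor_γ (hT : h.TR) {τ : G} {s : F} (hτ : h.Tor τ s) (hs : s ≠ 0) {j : centralizer (Z : Set G)}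
    {ψ : Module.Dual F h.MF} (hψ : ψ ∈ hT.Phi j) (h0 : ψ h.v0 = 0) (m : h.MF) :
    h.Th (h.lf j (ψ (h.rp ⟨τ, hτ.hat hs⟩ m))) = s • (h.Th (h.lf j (ψ m)) ∘ₗ h.rp ⟨τ, hτ.hat hs⟩) := by
  obtain ⟨u, hu, a, hau, ha⟩ := hT.exists_act hψ
  obtain ⟨w, rfl⟩ := h.fm_surj m
  obtain ⟨k, hk, hc⟩ := h.fix_line a.2 (hT.fix_of' hu hau ha h0)
  have hkC := kx_le_cent hk
  set c := (k : G)⁻¹ * a with hcd
  have hcC := centralizer_le h.one.pl.ZV hc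
  obtain ⟨k', hk', y, hy, he⟩ := hT.tor_act hτ hs hk hc
  have hyC := h.yl_C hy
  have hk'C := kx_le_cent hk'
  have hN := hτ.norm_Z hs
  rw [← hT.Th_tor' hτ hs]
  -- `τ (a w a⁻¹) τ⁻¹` in two ways
  have e1 : h.wj hN (h.wj (C_norm a.2) w) =
      h.wj (C_norm hk'C) (h.wj (C_norm hyC) (h.wj (C_norm hcC) (h.wj hN w))) := by
    apply Subtype.ext
    simp only [h.wj_coe]
    have e2 : τ * ((a : G) * w * (a : G)⁻¹) * τ⁻¹ = (τ * (k * c)) * w * (τ * (k * c))⁻¹ := by rw [hcd]; group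
    rw [e2, he]; group
  have e3 : h.Th (h.wj hN (h.wj (C_norm a.2) w)) = h.Th (h.wj hN (h.lf j (ψ (h.fm w)))) + h.Th (h.wj hN w) := by
    rw [← hT.Th_mul]
    apply hT.Th_congr
    have h1 := (mem_normalizer_iff.1 hN _).1 (hT.comm_line hu hau ha w)
    have e4 : (h.wj hN (h.wj (C_norm a.2) w) : G) * ((h.wj hN (h.lf j (ψ (h.fm w))) * h.wj hN w : ws V Z) : G)⁻¹ =
        τ * ((a : G) * w * (a : G)⁻¹ * (h.lf j (ψ (h.fm w)) * w : G)⁻¹) * τ⁻¹ := by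
      rw [Subgroup.coe_mul]
      simp only [h.wj_coe]
      group
    rw [e4]
    exact h1
  have e5 : h.Th (h.wj (C_norm hcC) (h.wj hN w)) = h.Th (h.wj (C_norm a.2) (h.wj hN w)) := by
    have e6 : h.wj (C_norm a.2) (h.wj hN w) = h.wj (C_norm hkC) (h.wj (C_norm hcC) (h.wj hN w)) := by
      apply Subtype.ext
      simp only [h.wj_coe]
      rw [hcd]; group
    rw [e6, hT.Th_K hk]
  have e7 := hT.Th_act hu hau ha (h.wj hN w)
  rw [e1, hT.Th_K hk', hT.Th_yl hy, e5, e7] at e3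
  have e8 := add_right_cancel e3
  rw [← e8]
  congr 2
  rw [h.fm_wj (hτ.hat hs)]

end Co

end Cfsg.Agent.Omega.NO3S.OneQ

end

end

-- merged: Cfsg.Agent.Mrg.Omega.NO3S.OneQ.TrE.Main
section

/-!
# NO-3S, `OneQ`: case (TR) is impossible (bb OMEGA #20607), assembly

* `TR.mem_rz`, `TR.sysP` : `TRp.Sys F h.vv hT.Phi`;
* `TR.false_of` : `TRp.Inj`, `δ` and `4 ≤ |F|` give a contradiction.
-/

set_option autoImplicit false
set_option linter.unusedSectionVars false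

namespace Cfsg.Agent.Omega.NO3S.OneQ

open Subgroup Cfsg.Agent.Omega.NO3S.PT Cfsg.Agent.Omega.NoFF.Basic
open scoped Pointwise

universe u

variable {G : Type u} [Group G]

namespace Co

variable [Finite G] {F : Type*} [Field F] [CharP F 2] {S : Sylow 2 G} {B P V Z : Subgroup G} {h : Co F S B P V Z}

theorem TR.mem_rz (hT : h.TR) (c : centralizer (Z : Set G)) (φ : Module.Dual F h.MF) :
    φ ∈ hT.Phi c ↔ ∃ a : centralizer (Z : Set G), (a : G) ∈ ws V h.Yp ∧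
      ∀ m, h.rz (c * a * c⁻¹) m = m + φ m • h.vv c := by
  rw [hT.mem_Phi]
  constructor
  · rintro ⟨w, hw⟩
    refine ⟨⟨h.sw * w * h.sw⁻¹, h.one.W_le_C h.pY (h.sw_W w.2)⟩, h.sw_W w.2, fun m => ?_⟩
    rw [Mix.r_mul, Mix.r_mul]
    exact hw m
  · rintro ⟨a, ha, hae⟩
    refine ⟨⟨h.sw⁻¹ * a * h.sw, h.sw_inv_W ha⟩, fun m => ?_⟩
    have h1 := hae m
    rw [Mix.r_mul, Mix.r_mul] at h1
    have h2 : h.ag ⟨h.sw⁻¹ * a * h.sw, h.sw_inv_W ha⟩ = h.rz a := by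
      show h.rp _ = h.rp _
      congr 1
      apply Subtype.ext
      show h.sw * (h.sw⁻¹ * a * h.sw) * h.sw⁻¹ = a
      group
    rw [h2]
    exact h1

theorem TR.Phi_eq (hT : h.TR) : h.mix.Pg = hT.Phi := by
  funext c
  ext φ
  rw [hT.mem_rz]
  rfl

/-- the pure system -/
theorem TR.sysP (hT : h.TR) (hT' : OneQ.TR V Z) : TRp.Sys F h.vv hT.Phi := by
  have h1 := h.sys hT'
  rw [hT.Phi_eq] at h1
  exact h1

/-- **(TR), assembly** -/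
theorem TR.false_of [Finite F] (hF : 3 ≤ Nat.card F) (hT : h.TR) (Sy : TRp.Sys F h.vv hT.Phi)
    (hI : TRp.Inj h.vv hT.Phi) {f : Module.Dual F h.MF} (hf : f ∈ hT.Phi 1) (hf0 : f ≠ 0)
    (hδ : ∃ δ : F ≃+ F, ∀ w : ws V Z, h.Th w = δ (f (h.fm w)) • f) : False := by
  obtain ⟨δ, hδ⟩ := hδ
  let D : TrE.PreDat h :=
    { f := f
      f0 := hf0
      δ := δ
      ag := fun w hw m => by
        have h1 := hT.ag_Th ⟨w, hw⟩ m
        rw [hδ, LinearMap.smul_apply, smul_eq_mul] at h1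
        exact h1 }
  obtain ⟨E⟩ := D.toDat fun c hc => h.exists_h hT (v := h.vv) (fun _ => rfl) hT.mem_rz Sy hI hf hf0 hc
  obtain ⟨s, hs0, hs1⟩ : ∃ s : F, s ≠ 0 ∧ s ≠ 1 := by
    by_contra hcon
    push Not at hcon
    have h1 : Function.Surjective (fun b : Bool => if b then (1 : F) else 0) := by
      intro x
      by_cases hx : x = 0
      · exact ⟨false, by simp [hx]⟩
      · exact ⟨true, by simp [hcon x hx]⟩
    have h2 := Nat.card_le_card_of_surjective _ h1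
    have h3 : Nat.card Bool = 2 := by simp
    omega
  obtain ⟨b, hb, hb2, hbE⟩ := E.exists_b hs0 hs1
  exact h.tr_end hT (v := h.vv) (fun _ => rfl) hT.mem_rz Sy hI hb hb2 hbE

end Co

end Cfsg.Agent.Omega.NO3S.OneQ

end

-- merged: Cfsg.Agent.Mrg.Omega.NO3S.OneQ.TrE.InjLft
section

/-!
# NO-3S, `OneQ`: case (TR) is impossible (bb OMEGA #20607): the records `TRp.Tw`, `TRp.Lft`

* `TR.no_two`, `TR.inj` : no type 2; `TR.lftP` : the lifts; **`TR.false`**, `Co.tr_false` : `[W_Z, W_Y] ≤ V` is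
  impossible, `|F| ≥ 3`; **`Co.ntr_all`** : case (N).
-/

set_option autoImplicit false
set_option linter.unusedSectionVars false

namespace Cfsg.Agent.Omega.NO3S.OneQ

open Subgroup Cfsg.Agent.Omega.NO3S.PT Cfsg.Agent.Omega.NoFF.Basic
open scoped Pointwise

universe u

variable {G : Type u} [Group G]

namespace Co

variable [Finite G] {F : Type*} [Field F] [CharP F 2] {S : Sylow 2 G} {B P V Z : Subgroup G} {h : Co F S B P V Z}

variable (h) in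
/-- `fm` as an additive map, from the additive group of `W_Z` -/
noncomputable def pA : Additive (ws V Z) →+ h.MF where
  toFun w := h.fm w.toMul
  map_zero' := h.fm_one
  map_add' := fun w w' => h.fm_mul w.toMul w'.toMul

/-- `Th` as an additive map -/
noncomputable def TR.tA (hT : h.TR) : Additive (ws V Z) →+ Module.Dual F h.MF where
  toFun w := h.Th w.toMul
  map_zero' := hT.Th_one
  map_add' := fun w w' => hT.Th_mul w.toMul w'.toMul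

/-- `W_Z` is abelian -/
theorem W_comm' (h : Co F S B P V Z) (w w' : ws V Z) : w * w' = w' * w :=
  Subtype.ext (h.one.comm_W h.one.self.cj w.2 w'.2)

/-- the commutative group `W_Z` -/
@[reducible] def wA (h : Co F S B P V Z) : AddCommGroup (Additive (ws V Z)) :=
  { (inferInstance : AddGroup (Additive (ws V Z))) with
    add_comm := fun a b => congrArg Additive.ofMul (h.W_comm' a.toMul b.toMul) }

theorem lf_mul (h : Co F S B P V Z) (j : centralizer (Z : Set G)) (c c' : F) : h.lf j (c + c') = h.lf j c * h.lf j c' := by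
  apply Subtype.ext
  show (j : G) * h.e 0 (c + c') * (j : G)⁻¹ = j * h.e 0 c * (j : G)⁻¹ * (j * h.e 0 c' * (j : G)⁻¹)
  have e : h.e 0 (c + c') = h.e 0 c * h.e 0 c' := by rw [← h.e_add, add_zero]
  rw [e]; group

/-- no type 2 at the base line -/
theorem TR.no_two [Finite F] (hF : 3 ≤ Nat.card F) (hT : h.TR) (Sy : TRp.Sys F h.vv hT.Phi)
    {j : centralizer (Z : Set G)} (h1 : TRp.Hyp h.vv hT.Phi 1 j) (h2 : TRp.Hyp h.vv hT.Phi j 1)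
    {ψ : Module.Dual F h.MF} (hψ : ψ ∈ hT.Phi j) (h0 : ψ (h.vv 1) = 0) : ψ = 0 := by
  obtain ⟨s, hs0, hs1⟩ : ∃ s : F, s ≠ 0 ∧ s ≠ 1 := by
    by_contra hcon
    push Not at hcon
    have h1 : Function.Surjective (fun b : Bool => if b then (1 : F) else 0) := by
      intro x
      by_cases hx : x = 0
      · exact ⟨false, by simp [hx]⟩
      · exact ⟨true, by simp [hcon x hx]⟩
    have h2 := Nat.card_le_card_of_surjective _ h1
    have h3 : Nat.card Bool = 2 := by simp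
    omega
  obtain ⟨τ, hτ⟩ := h.exists_tor hs0
  let _ := h.wA
  have D : TRp.Tw F (W := Additive (ws V Z)) h.vv hT.Phi 1 h.pA hT.tA (fun j c => h.Th (h.lf j c)) s
      (h.rp ⟨τ, hτ.hat hs0⟩) :=
    { pi_surj := fun m => by
        obtain ⟨w, hw⟩ := h.fm_surj m
        exact ⟨Additive.ofMul w, hw⟩
      Θ_mem := fun w => by
        rw [hT.Phi_one]
        exact ⟨_, rfl⟩
      Θ_surj := fun φ hφ => by
        rw [hT.Phi_one] at hφ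
        obtain ⟨w, hw⟩ := hφ
        exact ⟨Additive.ofMul w, hw⟩
      γ_add := fun j c c' => by
        show h.Th (h.lf j (c + c')) = _
        rw [h.lf_mul, hT.Th_mul]
      inv := fun {j ψ} hψ h0 w => by
        rw [h.vv_one] at h0
        exact hT.inv hψ h0 w.toMul
      r_ne := hs0
      r_ne_one := hs1
      T_surj := fun m => ⟨h.rp ⟨τ, hτ.hat hs0⟩⁻¹ m, by
        rw [← Module.End.mul_apply, ← map_mul, mul_inv_cancel, map_one, Module.End.one_apply]⟩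
      tor := fun {φ} hφ => by
        rw [hT.Phi_one] at hφ ⊢
        exact hT.tor hτ hs0 hφ
      tor_b := fun {j ψ φ} hψ h0 hφ m => by
        rw [h.vv_one] at h0
        rw [hT.Phi_one] at hφ
        exact hT.tor_b hτ hs0 hψ h0 hφ m
      tor_γ := fun {j ψ} hψ h0 m => by
        rw [h.vv_one] at h0
        exact hT.tor_γ hτ hs0 hψ h0 m }
  exact Sy.no_two D h1 h2 hψ h0

/-- no type 2 -/
theorem TR.inj [Finite F] (hF : 3 ≤ Nat.card F) (hT : h.TR) (Sy : TRp.Sys F h.vv hT.Phi) : TRp.Inj h.vv hT.Phi := by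
  intro i j hij φ hφ h0
  have : Finite h.MF := inferInstance
  have hji := Sy.symm hij
  -- transport by `j⁻¹`
  have key : ∀ {a : centralizer (Z : Set G)} {χ : Module.Dual F h.MF}, χ ∈ hT.Phi a → χ ∘ₗ h.rcz j ∈ hT.Phi (j⁻¹ * a) := by
    intro a χ hχ
    rw [hT.Phi_mul] 
    have e : (χ ∘ₗ h.rcz j) ∘ₗ h.rcz j⁻¹ = χ := LinearMap.ext fun m => by
      rw [LinearMap.comp_apply, LinearMap.comp_apply, h.rcz_rc_inv]
    rw [e]
    exact hχ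
  have hj1 : j⁻¹ * j = 1 := inv_mul_cancel j
  have e1 : TRp.Hyp h.vv hT.Phi 1 (j⁻¹ * i) := by
    obtain ⟨χ, hχ, hne⟩ := hji
    refine ⟨χ ∘ₗ h.rcz j, by rw [← hj1]; exact key hχ, ?_⟩
    rw [LinearMap.comp_apply, h.rcz_vv, mul_inv_cancel_left]
    exact hne
  have e2 : TRp.Hyp h.vv hT.Phi (j⁻¹ * i) 1 := Sy.symm e1
  have e3 : (φ ∘ₗ h.rcz j) (h.vv 1) = 0 := by
    rw [LinearMap.comp_apply, h.rcz_vv, mul_one]
    exact h0
  have e4 := hT.no_two hF Sy e1 e2 (key hφ) e3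
  refine LinearMap.ext fun m => ?_
  have e5 := LinearMap.congr_fun e4 (h.rcz j⁻¹ m)
  rw [LinearMap.comp_apply, h.rcz_rc_inv] at e5
  exact e5

/-- the lifts -/
theorem TR.lftP (hT : h.TR) : letI := h.wA
    TRp.Lft F (W := Additive (ws V Z)) h.vv hT.Phi 1 h.pA hT.tA fun j c => Additive.ofMul (h.lf j c) := by
  let _ := h.wA
  refine
    { pi_surj := fun m => by
        obtain ⟨w, hw⟩ := h.fm_surj m
        exact ⟨Additive.ofMul w, hw⟩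
      Θ_mem := fun w => by
        rw [hT.Phi_one]
        exact ⟨_, rfl⟩
      Θ_surj := fun φ hφ => by
        rw [hT.Phi_one] at hφ
        obtain ⟨w, hw⟩ := hφ
        exact ⟨Additive.ofMul w, hw⟩
      ℓ_pi := fun j c => h.fm_lf j c
      ℓ_add := fun j c c' => by
        show h.Th (h.lf j (c + c')) = _
        rw [h.lf_mul, hT.Th_mul]
        rfl
      inv := fun {j ψ} hψ h0 w => by
        rw [h.vv_one] at h0
        exact hT.inv hψ h0 w.toMul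
      act := fun {j ψ} hψ i => ?_
      gen := fun w => ?_ }
  · obtain ⟨u, hu, a, hau, ha⟩ := hT.exists_act hψ
    refine ⟨a * i, ?_, fun φ => ?_, fun c => ?_⟩
    · rw [← h.rcz_vv, ha]
    · rw [hT.Phi_mul]
      have e : φ ∘ₗ h.rcz a = φ + φ (h.vv j) • ψ := LinearMap.ext fun m => by
        rw [LinearMap.comp_apply, ha, map_add, map_smul, LinearMap.add_apply, LinearMap.smul_apply, smul_eq_mul,
          smul_eq_mul, mul_comm]
      rw [e]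
    · have h1 := hT.Th_act hu hau ha (h.lf i c)
      rw [h.fm_lf, map_smul, smul_eq_mul] at h1
      have h2 : h.wj (C_norm a.2) (h.lf i c) = h.lf (a * i) c := by
        apply Subtype.ext
        show (a : G) * (i * h.e 0 c * (i : G)⁻¹) * (a : G)⁻¹ = (a * i : G) * h.e 0 c * (a * i : G)⁻¹
        group
      rw [h2, add_comm] at h1
      exact h1
  · -- generation
    set K := AddSubgroup.closure ({x : Additive (ws V Z) | ∃ j c, x = Additive.ofMul (h.lf j c)} ∪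
      {x | h.pA x = 0 ∧ hT.tA x = 0}) with hK
    let D : Subgroup G :=
      { carrier := {g | ∃ hg : g ∈ ws V Z, Additive.ofMul (⟨g, hg⟩ : ws V Z) ∈ K}
        one_mem' := ⟨one_mem _, zero_mem K⟩
        mul_mem' := by
          rintro a b ⟨ha, ha'⟩ ⟨hb, hb'⟩
          exact ⟨mul_mem ha hb, add_mem ha' hb'⟩
        inv_mem' := by
          rintro a ⟨ha, ha'⟩
          exact ⟨inv_mem ha, neg_mem ha'⟩ }
    have hW : ws V Z ≤ D := by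
      refine ws_le fun L hL hZL => ?_
      obtain ⟨c, hc, rfl⟩ := h.line_eq hL hZL
      intro x hx
      rw [mem_cj] at hx
      obtain ⟨a, b, hab⟩ := (h.mem_V _).1 hx
      have hx' : x = h.e a 0 * (c * h.e 0 b * c⁻¹) := by
        have e1 : h.e a b = h.e a 0 * h.e 0 b := by rw [← h.e_add, add_zero, zero_add]
        have e2 : c * h.e a 0 * c⁻¹ = h.e a 0 := by
          rw [(mem_centralizer_iff.1 hc _ (h.e_memZ a)).symm, mul_inv_cancel_right]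
        calc x = c * (c⁻¹ * x * c) * c⁻¹ := by group
          _ = c * h.e a 0 * c⁻¹ * (c * h.e 0 b * c⁻¹) := by rw [← hab, e1]; group
          _ = _ := by rw [e2]
      rw [hx']
      refine D.mul_mem ?_ ?_
      · refine ⟨h.W_V a 0, AddSubgroup.subset_closure (Or.inr ⟨?_, ?_⟩)⟩
        · show h.fm ⟨h.e a 0, _⟩ = 0
          rw [h.fm_e, zero_smul]
        · exact hT.Th_Z (w := ⟨h.e a 0, h.W_V a 0⟩) (h.e_memZ a)
      · exact ⟨(h.lf ⟨c, hc⟩ b).2, AddSubgroup.subset_closure (Or.inl ⟨⟨c, hc⟩, b, rfl⟩)⟩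
    obtain ⟨_, hw⟩ := hW w.toMul.2
    exact hw

/-- **case (TR) is impossible** -/
theorem TR.false [Finite F] (hF : 3 ≤ Nat.card F) (hT : h.TR) (hT' : OneQ.TR V Z) : False := by
  have Sy := hT.sysP hT'
  have hI : TRp.Inj h.vv hT.Phi := hT.inj hF Sy
  have : Finite h.MF := inferInstance
  obtain ⟨f, hf, hf0⟩ := Sy.exists_ne 1
  let _ := h.wA
  obtain ⟨δ, hδ⟩ := TRp.Lft.delta Sy hI hT.lftP hf hf0
  exact hT.false_of hF Sy hI hf hf0 ⟨δ, fun w => hδ (Additive.ofMul w)⟩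

/-- one point is enough -/
theorem TR.all (hT : h.TR) : OneQ.TR V Z := by
  intro Y hY hne w hw u hu
  obtain ⟨k, hk, rfl⟩ := h.one.move h.one.self h.pY hY h.Yp_ne hne
  have hkN := centralizer_le_normalizer _ (kx_le_cent hk)
  have hw' : k⁻¹ * w * k ∈ ws V Z := by
    have := h.W_conj (inv_mem hkN) hw
    rwa [inv_inv] at this
  have hu' : k⁻¹ * u * k ∈ ws V h.Yp := by
    rw [ws_cj, mem_cj] at hu
    exact hu
  have h1 := hT _ hw' _ hu'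
  have h2 := (mem_normalizer_iff.1 (h.one.K_norm h.one.self hk) _).1 h1
  have e : k * (k⁻¹ * w * k * (k⁻¹ * u * k) * (k⁻¹ * w * k)⁻¹ * (k⁻¹ * u * k)⁻¹) * k⁻¹ = w * u * w⁻¹ * u⁻¹ := by group
  rwa [e] at h2

/-- **(TR) is impossible** (846's socket `TrF`) -/
theorem trF (h : Co F S B P V Z) [Finite F] (hF : 3 ≤ Nat.card F)
    (hT : ∀ w ∈ ws V Z, ∀ u ∈ ws V h.Yp, w * u * w⁻¹ * u⁻¹ ∈ V) : False :=
  TR.false (h := h) hF hT (TR.all hT)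

/-- **(TR) is impossible** -/
theorem tr_false (h : Co F S B P V Z) [Finite F] (hF : 3 ≤ Nat.card F) (hT : OneQ.TR V Z) : False :=
  TR.false (h := h) hF (fun w hw u hu => hT _ h.pY h.Yp_ne w hw u hu) hT

/-- **only case (N) is left** -/
theorem ntr_all (h : Co F S B P V Z) [Finite F] (hF : 3 ≤ Nat.card F) : NTr V Z := by
  by_cases hT : OneQ.TR V Z
  · exact (h.tr_false hF hT).elim
  · unfold OneQ.TR at hT
    push Not at hT
    obtain ⟨Y, hY, hne, w, hw, u, hu, hwu⟩ := hT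
    exact h.ntr hY hne ⟨w, hw, u, hu, hwu⟩

end Co

end Cfsg.Agent.Omega.NO3S.OneQ

end
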